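import Cfsg.Agent.Metacyclic.Subgroups

/-!
Automorphisms of non-abelian metacyclic `p`-groups, `p` odd, fix a nontrivial coset.
-/

set_option autoImplicit false

open Subgroup
open scoped commutatorElement

namespace Cfsg.Agent.Metacyclic

variable {p : ℕ} {G : Type*} [Group G] [hp : Fact p.Prime]

/-- A group embedded in a metacyclic group is metacyclic. -/
theorem isMetacyclic_of_injective {H : Type*} [Group H] (h : Cfsg.IsMetacyclic G) (f : H →* G)
    (hf : Function.Injective f) : Cfsg.IsMetacyclic H := by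
  obtain ⟨N, hN, hNc, hQc⟩ := h
  refine ⟨N.comap f, inferInstance, ?_, ?_⟩
  · exact isCyclic_of_injective ((f.comp (N.comap f).subtype).codRestrict N fun x => x.2)
      (fun x y hxy => Subtype.ext (hf (congrArg Subtype.val hxy :)))
  · let g : H →* G ⧸ N := (QuotientGroup.mk' N).comp f
    have hg : g.ker = N.comap f := by ext x; simp [g]
    exact isCyclic_of_injective
      ((QuotientGroup.kerLift g).comp (QuotientGroup.quotientMulEquivOfEq hg.symm).toMonoidHom)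
      ((QuotientGroup.kerLift_injective g).comp (MulEquiv.injective _))

namespace Data

variable (D : Data p G) [Finite G]

omit hp in
theorem zpow_a_mem_cong {k : ℕ} {X : ℤ} (h : (p : ℤ) ^ k ∣ X) : D.a ^ X ∈ D.cong k :=
  D.mem_cong.mpr ⟨X, 0, h, dvd_zero _, by simp [el]⟩

theorem cong_normal (k : ℕ) : (D.cong k).Normal := by
  refine ⟨fun g hg h => ?_⟩
  obtain ⟨x, y, hx, hy, rfl⟩ := D.mem_cong.mp hg
  obtain ⟨z, w, rfl⟩ := D.hgen' h
  rw [← inv_mul_cancel_right (D.el z w * D.el x y * (D.el z w)⁻¹) (D.el x y), D.conj_mul_inv]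
  refine mul_mem (D.zpow_a_mem_cong (dvd_mul_of_dvd_right ?_ (D.r - 1))) hg
  exact dvd_sub (hx.mul_right _) (((D.pow_dvd_S_iff k y).mpr hy).mul_left _)

theorem map_mem_cong {k : ℕ} (f : G →* G) {g : G} (hg : g ∈ D.cong k) : f g ∈ D.cong k := by
  have hpow : ∀ u : G, u ^ p ^ k ∈ D.cong k := fun u => by
    obtain ⟨x, y, rfl⟩ := D.hgen' u
    rw [el_pow]
    exact D.mem_cong.mpr ⟨_, _, dvd_mul_of_dvd_right
      (((pow_dvd_geo_iff D.hp2 D.ht1 (D.dvd_pow_sub_one' y) k _).mpr dvd_rfl)) _, dvd_mul_left _ _, rfl⟩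
  obtain ⟨x, y, ⟨x', rfl⟩, ⟨y', rfl⟩, rfl⟩ := D.mem_cong.mp hg
  rw [el, map_mul, mul_comm ((p : ℤ) ^ k), mul_comm (p ^ k), zpow_mul, pow_mul, map_pow,
    show (p : ℤ) ^ k = ((p ^ k : ℕ) : ℤ) by push_cast; rfl, zpow_natCast, map_pow]
  exact mul_mem (hpow _) (hpow _)

theorem dvd_of_n_pos (hn : 1 ≤ D.n) : D.α = D.n + D.t ∧ ∃ c : ℤ, D.r - 1 = (p : ℤ) ^ D.t * c ∧
    ¬ (p : ℤ) ∣ c := by
  obtain ⟨c, hc⟩ := D.htr
  have key : ∀ m, D.α ≤ m + (D.n - 1) → (p : ℤ) ^ m ∣ D.r - 1 → False := fun m hm hd => by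
    have h1 := (D.hiff ((p : ℤ) ^ (D.n - 1))).mp ((pow_dvd_pow _ hm).trans (by
      rw [pow_add]; exact mul_dvd_mul_right hd _))
    have h2 := (pow_dvd_pow_iff (by exact_mod_cast hp.out.ne_zero) (Nat.prime_iff_prime_int.mp hp.out).not_isUnit).mp h1
    omega
  refine ⟨le_antisymm D.hαnt ?_, c, hc, fun h => ?_⟩
  · by_contra h
    exact key D.t (by omega) ⟨c, hc⟩
  · refine key (D.t + 1) (by have := D.hαnt; omega) ?_
    rw [hc, pow_succ]; exact mul_dvd_mul_left _ h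

theorem exists_fixed_coset (hn : 1 ≤ D.n)
    (hmax : D.a ^ ((p : ℤ) ^ D.t) ∉ D.cong (D.t + 1)) :
    ∃ (M : Subgroup G) (h : G), h ∉ M ∧ _root_.commutator G ≤ M ∧
      ∀ f : G ≃* G, (∀ m ∈ M, f m ∈ M) ∧ h⁻¹ * f h ∈ M := by
  have hpZ : Prime (p : ℤ) := Nat.prime_iff_prime_int.mp hp.out
  obtain ⟨-, c, hc, hpc⟩ := D.dvd_of_n_pos hn
  have hr1 : (p : ℤ) ∣ D.r - 1 := (dvd_pow_self _ (by have := D.ht1; omega)).trans D.htr
  -- the first layer
  have := D.cong_normal 1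
  let π₁ := QuotientGroup.mk' (D.cong 1)
  have h₁ : ∀ (x : ℤ) (y : ℕ), π₁ (D.el x y) = π₁ D.a ^ x * π₁ D.b ^ y := fun x y => by
    rw [el, map_mul, map_zpow, map_pow]
  have hab₁ : Commute (π₁ D.b) (π₁ D.a) := by
    refine commutatorElement_eq_one_iff_commute.mp ?_
    rw [← map_commutatorElement, QuotientGroup.mk'_apply, QuotientGroup.eq_one_iff, commutatorElement_def,
      show D.b = D.el 0 1 by simp [el], show D.a = D.el 1 0 by simp [el], D.conj_mul_inv]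
    exact D.zpow_a_mem_cong (by rw [pow_one]; exact hr1.mul_right _)
  have hA₁ : π₁ D.a ^ p = 1 := by
    rw [← map_pow, QuotientGroup.mk'_apply, QuotientGroup.eq_one_iff]
    exact D.mem_cong.mpr ⟨p, 0, by simp, dvd_zero _, by simp [el]⟩
  have hB₁ : π₁ D.b ^ p = 1 := by
    rw [← map_pow, QuotientGroup.mk'_apply, QuotientGroup.eq_one_iff]
    exact D.mem_cong.mpr ⟨0, p, dvd_zero _, by simp, by simp [el]⟩
  have hcom : _root_.commutator G ≤ D.cong 1 := by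
    rw [_root_.commutator_def, commutator_le]
    intro g _ g' _
    obtain ⟨z, w, rfl⟩ := D.hgen' g
    obtain ⟨x, y, rfl⟩ := D.hgen' g'
    rw [commutatorElement_def, D.conj_mul_inv]
    exact D.zpow_a_mem_cong (by rw [pow_one]; exact hr1.mul_right _)
  -- the layer `t`
  have := D.cong_normal (D.t + 1)
  let π := QuotientGroup.mk' (D.cong (D.t + 1))
  set u := π (D.a ^ ((p : ℤ) ^ D.t)) with hu
  set v := π (D.b ^ p ^ D.t) with hv
  have hu1 : u ≠ 1 := fun h => hmax ((QuotientGroup.eq_one_iff _).mp h)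
  have hup : u ^ p = 1 := by
    rw [hu, ← map_pow, QuotientGroup.mk'_apply, QuotientGroup.eq_one_iff, ← zpow_natCast, ← zpow_mul, ← pow_succ]
    exact D.zpow_a_mem_cong dvd_rfl
  have hvp : v ^ p = 1 := by
    rw [hv, ← map_pow, QuotientGroup.mk'_apply, QuotientGroup.eq_one_iff, ← pow_mul, ← pow_succ]
    exact D.mem_cong.mpr ⟨0, _, dvd_zero _, dvd_rfl, by simp [el]⟩
  have huv : Commute u v := by
    refine Commute.symm (commutatorElement_eq_one_iff_commute.mp ?_)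
    rw [hu, hv, ← map_commutatorElement, QuotientGroup.mk'_apply, QuotientGroup.eq_one_iff, commutatorElement_def,
      show D.b ^ p ^ D.t = D.el 0 (p ^ D.t) by simp [el],
      show D.a ^ ((p : ℤ) ^ D.t) = D.el ((p : ℤ) ^ D.t) 0 by simp [el], D.conj_mul_inv]
    refine D.zpow_a_mem_cong ?_
    simp only [S, geo_zero, mul_zero, sub_zero]
    rw [pow_succ']
    exact mul_dvd_mul hr1 (dvd_mul_right _ _)
  have hzu : ∀ i j : ℤ, u ^ i = u ^ j ↔ (p : ℤ) ∣ i - j := fun i j => by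
    rw [← orderOf_dvd_sub_iff_zpow_eq_zpow, orderOf_eq_prime hup hu1]
  have hpow : ∀ (x : ℤ) (y : ℕ), π (D.el x y ^ p ^ D.t) = u ^ x * v ^ y := fun x y => by
    obtain ⟨e, he⟩ := geo_prime_pow D.hp2 D.ht1 D.t (D.dvd_pow_sub_one' y)
    rw [sub_eq_iff_eq_add] at he
    rw [el_pow, el, map_mul, map_zpow, map_pow, mul_comm y, pow_mul, ← map_pow π D.b, ← hv,
      show x * geo (D.r ^ y) (p ^ D.t) = (p : ℤ) ^ D.t * x + (p : ℤ) ^ (D.t + 1) * ((p : ℤ) ^ (D.t - 1) * e * x) by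
        rw [he, pow_add, show (p : ℤ) ^ D.t * (p : ℤ) ^ D.t = (p : ℤ) ^ (D.t + 1) * (p : ℤ) ^ (D.t - 1) by
          rw [← pow_add, ← pow_add]; congr 1; have := D.ht1; omega]
        ring,
      zpow_add, zpow_mul, ← map_zpow π, ← hu]
    have : π D.a ^ ((p : ℤ) ^ (D.t + 1) * ((p : ℤ) ^ (D.t - 1) * e * x)) = 1 := by
      rw [← map_zpow, QuotientGroup.mk'_apply, QuotientGroup.eq_one_iff]
      exact D.zpow_a_mem_cong (dvd_mul_right _ _)
    rw [this, mul_one]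
  -- equivariance
  have hdet : ∀ (f : G ≃* G) (x z : ℤ) (y w : ℕ), f D.a = D.el x y → f D.b = D.el z w →
      u ^ x * v ^ y = u ^ (x * w - z * y) ∧ ¬ (p : ℤ) ∣ x * w - z * y := by
    intro f x z y w hfa hfb
    have e1 : f (D.a ^ (D.r - 1)) = D.a ^ ((D.r - 1) * (x * D.S w - z * D.S y)) := by
      rw [← D.conj_mul_inv, ← hfa, ← hfb, ← map_inv, ← map_inv, ← map_mul, ← map_mul, ← map_mul, D.hact,
        zpow_sub, zpow_one]
    have e2 : π (f (D.a ^ ((p : ℤ) ^ D.t))) = u ^ x * v ^ y := by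
      rw [show (p : ℤ) ^ D.t = ((p ^ D.t : ℕ) : ℤ) by push_cast; rfl, zpow_natCast, map_pow f, hfa, hpow]
    have e3 := congrArg π e1
    rw [hc, zpow_mul, map_zpow f, map_zpow π, e2, mul_assoc, zpow_mul, map_zpow π, ← hu] at e3
    have hcw : (p : ℤ) ∣ x * D.S w - z * D.S y - (x * w - z * y) := by
      rw [show x * D.S w - z * D.S y - (x * w - z * y) = x * (D.S w - w) - z * (D.S y - y) by ring]
      exact dvd_sub ((geo_modEq hr1 w).mul_left _) ((geo_modEq hr1 y).mul_left _)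
    obtain ⟨c₁, c₂, hcc⟩ := (hpZ.coprime_iff_not_dvd).mpr hpc
    have hroot : ∀ q : G ⧸ D.cong (D.t + 1), q ^ p = 1 → (q ^ c) ^ c₂ = q := fun q hq => by
      rw [← zpow_mul, show c * c₂ = 1 - (p : ℤ) * c₁ by linear_combination hcc, zpow_sub, zpow_one, zpow_mul,
        zpow_natCast, hq, one_zpow, inv_one, mul_one]
    have e4 : u ^ x * v ^ y = u ^ (x * D.S w - z * D.S y) := by
      have h1 := congrArg (fun q => q ^ c₂) e3
      rw [hroot _ (by rw [((huv.zpow_left x).pow_right y).mul_pow, ← zpow_natCast (u ^ x), ← zpow_mul, mul_comm,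
        zpow_mul, zpow_natCast, hup, one_zpow, ← pow_mul, mul_comm, pow_mul, hvp, one_pow, one_mul])] at h1
      rw [h1, ← zpow_mul, hzu]
      rw [show c * (x * D.S w - z * D.S y) * c₂ - (x * D.S w - z * D.S y)
        = (x * D.S w - z * D.S y) * (-((p : ℤ) * c₁)) by linear_combination (x * D.S w - z * D.S y) * hcc]
      exact dvd_mul_of_dvd_right (dvd_neg.mpr (dvd_mul_right _ _)) _
    have e5 : u ^ x * v ^ y = u ^ (x * w - z * y) := e4.trans ((hzu _ _).mpr hcw)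
    refine ⟨e5, fun hd => ?_⟩
    have e6 : π (f (D.a ^ ((p : ℤ) ^ D.t))) = 1 := by
      rw [e2, e5, ← zpow_zero u, hzu, sub_zero]; exact hd
    have := D.map_mem_cong f.symm.toMonoidHom ((QuotientGroup.eq_one_iff _).mp e6)
    rw [MulEquiv.toMonoidHom_eq_coe, MonoidHom.coe_coe, MulEquiv.symm_apply_apply] at this
    exact hmax this
  have hb1 : ∀ x : ℤ, D.el x 1 ∉ D.cong 1 := fun x h => by
    rw [D.el_mem_cong_iff hn, pow_one, pow_one] at h
    exact hp.out.not_dvd_one h.2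
  by_cases hvu : v ∈ zpowers u
  · -- dependent case
    obtain ⟨e₀, he₀⟩ := mem_zpowers_iff.mp hvu
    refine ⟨D.cong 1, D.el (-e₀) 1, hb1 _, hcom, fun f => ⟨fun m hm => D.map_mem_cong f.toMonoidHom hm, ?_⟩⟩
    obtain ⟨x, y, hfa⟩ := D.hgen' (f D.a)
    obtain ⟨z, w, hfb⟩ := D.hgen' (f D.b)
    obtain ⟨hd, hdX⟩ := hdet f x z y w hfa hfb
    have hd2 : u ^ z * v ^ w = u ^ ((x * w - z * y) * e₀) := by
      have hm : π (f (D.b ^ p ^ D.t)) = π (f ((D.a ^ ((p : ℤ) ^ D.t)) ^ e₀)) := by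
        refine QuotientGroup.eq.mpr ?_
        rw [← map_inv, ← map_mul]
        refine D.map_mem_cong f.toMonoidHom (QuotientGroup.eq.mp ?_)
        change v = π _
        rw [map_zpow]; exact he₀.symm
      rw [map_pow f, hfb, hpow, map_zpow f, map_zpow π,
        show (p : ℤ) ^ D.t = ((p ^ D.t : ℕ) : ℤ) by push_cast; rfl, zpow_natCast, map_pow f, hfa, hpow, hd,
        ← zpow_mul] at hm
      exact hm
    rw [← he₀, ← zpow_natCast, ← zpow_mul, ← zpow_add, hzu] at hd hd2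
    rw [← QuotientGroup.eq_one_iff, ← QuotientGroup.mk'_apply]
    change π₁ _ = 1
    rw [map_mul, map_inv, inv_mul_eq_one, el, map_mul f, map_zpow f, pow_one, hfa, hfb, map_mul π₁, map_mul π₁,
      map_zpow π₁, map_zpow π₁, h₁, h₁, (hab₁.symm.zpow_left x |>.pow_right y).mul_zpow, ← zpow_mul,
      ← zpow_natCast (π₁ D.b) y, ← zpow_mul, ← zpow_natCast (π₁ D.b) w]
    rw [show π₁ D.a ^ (x * -e₀) * π₁ D.b ^ ((y : ℤ) * -e₀) * (π₁ D.a ^ z * π₁ D.b ^ (w : ℤ)) =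
      π₁ D.a ^ (x * -e₀) * (π₁ D.b ^ ((y : ℤ) * -e₀) * π₁ D.a ^ z) * π₁ D.b ^ (w : ℤ) by group,
      ((hab₁.zpow_left _).zpow_right z).eq, ← mul_assoc, ← zpow_add, mul_assoc, ← zpow_add]
    have hcast : ∀ i : ℤ, (i : ZMod p) = 0 ↔ (p : ℤ) ∣ i := fun i => ZMod.intCast_zmod_eq_zero_iff_dvd i p
    rw [← hcast] at hd hd2 hdX
    have hz : ∀ (q : G ⧸ D.cong 1), q ^ p = 1 → ∀ i j : ℤ, (p : ℤ) ∣ i - j → q ^ i = q ^ j := fun q hq i j hij =>
      orderOf_dvd_sub_iff_zpow_eq_zpow.mp ((Int.natCast_dvd_natCast.mpr (orderOf_dvd_of_pow_eq_one hq)).trans hij)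
    have hone : ((w : ℤ) : ZMod p) - e₀ * y - 1 = 0 := by
      push_cast at hd hd2 hdX ⊢
      refine (mul_eq_zero.mp ?_).resolve_left hdX
      linear_combination (-(w : ZMod p)) * hd + (y : ZMod p) * hd2
    congr 1
    · refine hz _ hA₁ _ _ ((hcast _).mp ?_)
      push_cast at hd hd2 hone ⊢
      linear_combination -hd2 + (e₀ : ZMod p) * hd + (e₀ : ZMod p) * hone
    · conv_lhs => rw [← zpow_one (π₁ D.b)]
      refine hz _ hB₁ _ _ ((hcast _).mp ?_)
      push_cast at hone ⊢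
      linear_combination (-1 : ZMod p) * hone
  · -- independent case
    have := D.hnormal
    refine ⟨zpowers D.a ⊔ D.cong 1, D.b, fun h => ?_, hcom.trans le_sup_right, fun f => ?_⟩
    · obtain ⟨g, hg, m, hm, hgm⟩ := mem_sup_of_normal_left.mp h
      obtain ⟨i, rfl⟩ := mem_zpowers_iff.mp hg
      refine hb1 (-i) ?_
      rw [el, pow_one, ← hgm, zpow_neg, inv_mul_cancel_left]
      exact hm
    obtain ⟨x, y, hfa⟩ := D.hgen' (f D.a)
    obtain ⟨z, w, hfb⟩ := D.hgen' (f D.b)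
    obtain ⟨hd, hdX⟩ := hdet f x z y w hfa hfb
    have hy : p ∣ y := by
      by_contra hy
      refine hvu ?_
      have h1 : v ^ y ∈ zpowers u :=
        (mul_mem_cancel_left (zpow_mem_zpowers u x)).mp (hd ▸ zpow_mem_zpowers u _)
      obtain ⟨k, hk⟩ := exists_pow_eq_self_of_coprime (x := v) (n := y)
        (by rw [orderOf_eq_prime_iff.mpr ⟨hvp, fun h => hvu (h ▸ one_mem _)⟩]; exact ((hp.out.coprime_iff_not_dvd).mpr hy).symm)
      exact hk ▸ pow_mem h1 k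
    obtain ⟨y', rfl⟩ := hy
    rw [pow_mul, hvp, one_pow, mul_one, hzu] at hd
    have hw : (p : ℤ) ∣ (w : ℤ) - 1 := by
      have hx : ¬ (p : ℤ) ∣ x := fun h => hdX (dvd_sub (h.mul_right _) (by push_cast; exact ((dvd_mul_right _ _).mul_left _)))
      refine (hpZ.dvd_mul.mp ?_).resolve_left hx
      have : (p : ℤ) ∣ z * ((p * y' : ℕ) : ℤ) := by push_cast; exact (dvd_mul_right _ _).mul_left _
      rw [show x * ((w : ℤ) - 1) = -(x - (x * w - z * ((p * y' : ℕ) : ℤ))) + z * ((p * y' : ℕ) : ℤ) by ring]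
      exact dvd_add (dvd_neg.mpr hd) this
    have hmem : ∀ (i : ℤ) (k : ℕ), p ∣ k → D.el i k ∈ zpowers D.a ⊔ D.cong 1 := fun i k hk =>
      mul_mem (mem_sup_left (zpow_mem_zpowers _ _))
        (mem_sup_right (D.mem_cong.mpr ⟨0, k, dvd_zero _, by rwa [pow_one], by simp [el]⟩))
    constructor
    · intro m hm
      obtain ⟨g, hg, m', hm', rfl⟩ := mem_sup_of_normal_left.mp hm
      obtain ⟨i, rfl⟩ := mem_zpowers_iff.mp hg
      rw [map_mul, map_zpow, hfa]
      exact mul_mem (zpow_mem (hmem _ _ (dvd_mul_right _ _)) _) (mem_sup_right (D.map_mem_cong f.toMonoidHom hm'))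
    · rcases Nat.eq_zero_or_pos w with rfl | hw0
      · exact absurd hw (by simpa using hpZ.not_dvd_one)
      obtain ⟨w', rfl⟩ : ∃ w', w = w' + 1 := ⟨w - 1, by omega⟩
      rw [hfb, el, pow_succ', ← mul_assoc, ← mul_assoc]
      refine mul_mem (mem_sup_left ?_) (mem_sup_right (D.mem_cong.mpr ⟨0, w', dvd_zero _, ?_, by simp [el]⟩))
      · simpa using D.hnormal.conj_mem _ (zpow_mem_zpowers D.a z) D.b⁻¹
      · push_cast at hw
        rw [add_sub_cancel_right] at hw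
        rw [pow_one]; exact_mod_cast hw

end Data

/-- A non-abelian metacyclic `p`-group, `p` odd, has a proper subgroup above the derived subgroup,
invariant under all automorphisms, with a fixed coset. -/
theorem exists_fixed_coset [Finite G] (hp2 : p ≠ 2) (hG : IsPGroup p G) (hmc : Cfsg.IsMetacyclic G)
    (hnc : ¬ IsMulCommutative G) :
    ∃ (M : Subgroup G) (h : G), h ∉ M ∧ _root_.commutator G ≤ M ∧
      ∀ f : G ≃* G, (∀ m ∈ M, f m ∈ M) ∧ h⁻¹ * f h ∈ M := by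
  classical
  obtain ⟨N, ⟨hN, hNc, hQc⟩, hmaxN⟩ :=
    (Set.toFinite {N : Subgroup G | ∃ _ : N.Normal, IsCyclic N ∧ IsCyclic (G ⧸ N)}).exists_maximalFor
      (fun N : Subgroup G => Nat.card N) _ hmc
  obtain ⟨D, hD⟩ := exists_data_of hp2 hG N hN hNc hQc
  have hn : 1 ≤ D.n := by
    by_contra h
    refine hnc ?_
    have h1 := D.card_commutator_top
    rw [show D.n = 0 by omega, pow_zero] at h1
    have h2 := (Subgroup.card_eq_one.mp h1)
    refine ⟨⟨fun a b => commutatorElement_eq_one_iff_mul_comm.mp (Subgroup.mem_bot.mp ?_)⟩⟩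
    rw [← h2, _root_.commutator_def]
    exact commutator_mem_commutator (mem_top _) (mem_top _)
  refine D.exists_fixed_coset hn fun hmem => ?_
  have hpZ : Prime (p : ℤ) := Nat.prime_iff_prime_int.mp hp.out
  obtain ⟨hα, c, hc, -⟩ := D.dvd_of_n_pos hn
  obtain ⟨x, y, ⟨x', rfl⟩, hy, hxy⟩ := D.mem_cong.mp hmem
  have hby : D.b ^ y = D.a ^ ((p : ℤ) ^ D.t * (1 - p * x')) := by
    rw [Data.el] at hxy
    rw [mul_sub, mul_one, zpow_sub, ← zpow_neg, (Commute.refl D.a).zpow_zpow _ _, hxy, ← mul_assoc,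
      ← zpow_add, pow_succ, show -((p : ℤ) ^ D.t * (↑p * x')) + (p : ℤ) ^ D.t * ↑p * x' = 0 by ring, zpow_zero, one_mul]
  have hunit : ¬ (p : ℤ) ∣ 1 - p * x' := fun h => hpZ.not_dvd_one (by simpa using (dvd_add h (dvd_mul_right (p : ℤ) x')))
  obtain ⟨k₁, k₂, hk⟩ := ((hpZ.coprime_iff_not_dvd).mpr hunit).pow_left (m := D.α)
  have hta : D.a ^ ((p : ℤ) ^ D.t) ∈ zpowers D.b := by
    have h1 : (D.b ^ y) ^ k₂ = D.a ^ ((p : ℤ) ^ D.t) := by
      rw [hby, ← zpow_mul, D.zpow_a_eq_iff]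
      exact ⟨-((p : ℤ) ^ D.t * k₁), by linear_combination ((p : ℤ) ^ D.t) * hk⟩
    rw [← h1]; exact zpow_mem (pow_mem (mem_zpowers _) _) _
  have hcm : ∀ X : ℤ, D.a ^ ((D.r - 1) * X) ∈ zpowers D.b := fun X => by
    rw [hc, mul_assoc, zpow_mul]; exact zpow_mem hta _
  have hBn : (zpowers D.b).Normal := by
    refine ⟨fun g hg h => ?_⟩
    obtain ⟨k, rfl⟩ := mem_powers_iff_mem_zpowers.mpr hg
    obtain ⟨z, w, rfl⟩ := D.hgen' h
    rw [← inv_mul_cancel_right (D.el z w * D.b ^ k * (D.el z w)⁻¹) (D.b ^ k)]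
    refine mul_mem ?_ hg
    rw [show D.b ^ k = D.el 0 k by simp [Data.el], D.conj_mul_inv]
    exact hcm _
  have hBq : IsCyclic (G ⧸ zpowers D.b) := by
    refine IsCyclic.mk ⟨QuotientGroup.mk' _ D.a, fun q => ?_⟩
    obtain ⟨g, rfl⟩ := QuotientGroup.mk'_surjective _ q
    obtain ⟨i, j, rfl⟩ := D.hgen' g
    refine mem_zpowers_iff.mpr ⟨i, ?_⟩
    rw [Data.el, map_mul, map_zpow, map_pow, (QuotientGroup.eq_one_iff D.b).mpr (mem_zpowers _) |> fun h => (show QuotientGroup.mk' (zpowers D.b) D.b = 1 from h), one_pow, mul_one]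
  have hle : orderOf D.b ≤ p ^ D.α := by
    rw [← D.ha, ← Nat.card_zpowers, ← Nat.card_zpowers, hD]
    by_contra hlt
    exact hlt (hmaxN ⟨hBn, inferInstance, hBq⟩ (le_of_not_ge hlt))
  obtain ⟨k, hk'⟩ := IsPGroup.iff_orderOf.mp hG D.b
  rw [hk', Nat.pow_le_pow_iff_right hp.out.one_lt] at hle
  obtain ⟨y', rfl⟩ := hy
  have h1 : (D.b ^ (p ^ (D.t + 1) * y')) ^ p ^ (D.n - 1) = 1 := by
    refine orderOf_dvd_iff_pow_eq_one.mp ?_ |> fun h => by rw [← pow_mul]; exact h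
    rw [hk', show p ^ (D.t + 1) * y' * p ^ (D.n - 1) = p ^ (D.t + 1 + (D.n - 1)) * y' by ring]
    exact (pow_dvd_pow _ (by omega)).mul_right _
  rw [hby, ← zpow_natCast, ← zpow_mul, D.zpow_a_eq_one_iff] at h1
  push_cast at h1
  rw [show (p : ℤ) ^ D.t * (1 - p * x') * (p : ℤ) ^ (D.n - 1) = (p : ℤ) ^ (D.t + (D.n - 1)) * (1 - p * x') by ring] at h1
  have h2 := (((hpZ.coprime_iff_not_dvd).mpr hunit).pow_left).dvd_of_dvd_mul_right h1
  have h3 := (pow_dvd_pow_iff (by exact_mod_cast hp.out.ne_zero) hpZ.not_isUnit).mp h2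
  omega

end Cfsg.Agent.Metacyclic
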