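import Cfsg.Agent.Metacyclic.Subgroups

/-!
Metacyclic `p`-groups, `p` odd, are products of two disjoint cyclic subgroups.
-/

set_option autoImplicit false

open Subgroup

namespace Cfsg.Agent.Metacyclic.Data

variable {p : ℕ} {G : Type*} [Group G] [hp : Fact p.Prime] (D : Data p G) [Finite G]

include D in
theorem exists_split : ∃ A B : Subgroup G, IsCyclic A ∧ IsCyclic B ∧ A ⊓ B = ⊥ ∧
    Nat.card A * Nat.card B = Nat.card G := by
  have hpZ : Prime (p : ℤ) := Nat.prime_iff_prime_int.mp hp.out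
  have hnβ := D.n_le_β
  have hαnt := D.hαnt
  obtain ⟨s₁, hs₁⟩ := D.pow_b_β_mem
  obtain ⟨s, hs, hsA⟩ : ∃ s : ℤ, D.b ^ p ^ D.β = D.a ^ s ∧ ((p : ℤ) ^ D.β ∣ s ∨
      ((¬ (p : ℤ) ^ D.β ∣ s) ∧ ¬ (p : ℤ) ^ D.α ∣ s)) := by
    by_cases h : (p : ℤ) ^ D.α ∣ s₁
    · exact ⟨0, by rw [hs₁, D.zpow_a_eq_iff]; simpa using h, Or.inl (dvd_zero _)⟩
    · exact ⟨s₁, hs₁, by by_cases h' : (p : ℤ) ^ D.β ∣ s₁ <;> [left; right] <;> [exact h'; exact ⟨h', h⟩]⟩
  rcases hsA with ⟨s', rfl⟩ | ⟨hsβ, hsα⟩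
  · -- `G` splits over `⟨a⟩`
    set c := D.el (-s') 1 with hc
    have hcpow : c ^ p ^ D.β = 1 := by
      obtain ⟨A, hA⟩ := geo_prime_pow D.hp2 D.ht1 D.β (D.dvd_pow_sub_one' 1)
      rw [hc, el_pow, one_mul, el, hs, ← zpow_add, D.zpow_a_eq_one_iff,
        show (-s') * geo (D.r ^ 1) (p ^ D.β) + (p : ℤ) ^ D.β * s' = (-s') * (geo (D.r ^ 1) (p ^ D.β) - (p : ℤ) ^ D.β) by ring, hA]
      exact dvd_mul_of_dvd_right ((pow_dvd_pow _ (by omega)).mul_right A) _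
    have hmem : ∀ k : ℕ, c ^ k ∈ zpowers D.a → p ^ D.β ∣ k := fun k hk => by
      rw [hc, el_pow, one_mul, el, mul_mem_cancel_left (zpow_mem_zpowers _ _)] at hk
      exact (D.hb k).mp hk
    have hord : orderOf c = p ^ D.β := Nat.dvd_antisymm (orderOf_dvd_of_pow_eq_one hcpow)
      (hmem _ (by rw [pow_orderOf_eq_one]; exact one_mem _))
    refine ⟨zpowers D.a, zpowers c, inferInstance, inferInstance, ?_, ?_⟩
    · rw [eq_bot_iff]
      rintro g ⟨hga, hgc⟩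
      obtain ⟨k, rfl⟩ := mem_powers_iff_mem_zpowers.mpr hgc
      rw [mem_bot]
      obtain ⟨q, rfl⟩ := hmem k hga
      show c ^ (p ^ D.β * q) = 1
      rw [pow_mul, hcpow, one_pow]
    · rw [Nat.card_zpowers, Nat.card_zpowers, D.ha, hord, D.card_group, ← pow_add]
  · obtain ⟨σ, s0, hs0, rfl⟩ : ∃ (σ : ℕ) (s0 : ℤ), ¬ (p : ℤ) ∣ s0 ∧ s = (p : ℤ) ^ σ * s0 := by
      have hfin : FiniteMultiplicity (p : ℤ) s :=
        FiniteMultiplicity.of_prime_left hpZ (fun h => hsβ (h ▸ dvd_zero _))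
      obtain ⟨s0, hs0, h1⟩ := hfin.exists_eq_pow_mul_and_not_dvd
      exact ⟨_, s0, h1, hs0⟩
    have hσβ : σ < D.β := by
      by_contra h
      exact hsβ ((pow_dvd_pow _ (by omega)).mul_right _)
    have hσα : σ < D.α := by
      by_contra h
      exact hsα ((pow_dvd_pow _ (by omega)).mul_right _)
    have hnσ : D.n ≤ σ := by
      have h1 := D.dvd_of_b_pow hs
      by_contra h
      have h2 : (p : ℤ) ^ (σ + 1) ∣ (p : ℤ) ^ σ * s0 := (pow_dvd_pow _ (by omega)).trans h1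
      rw [pow_succ, mul_dvd_mul_iff_left (pow_ne_zero _ hpZ.ne_zero)] at h2
      exact hs0 h2
    obtain ⟨u, v, huv⟩ := ((hpZ.coprime_iff_not_dvd).mpr hs0).pow_left (m := D.α)
    -- `w'` solves `1 + s0 w' ≡ 0`
    have hpos : (0 : ℤ) < (p : ℤ) ^ D.α := pow_pos (by exact_mod_cast hp.out.pos) _
    set w' : ℕ := ((-v) % (p : ℤ) ^ D.α).toNat with hw'
    have hw : (p : ℤ) ^ D.α ∣ 1 + s0 * (w' : ℤ) := by
      rw [hw', Int.toNat_of_nonneg (Int.emod_nonneg _ hpos.ne'), Int.emod_def]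
      exact ⟨u - s0 * (-v / (p : ℤ) ^ D.α), by linear_combination -huv⟩
    set w := p ^ (D.β - σ) * w' with hwdef
    set c := D.el 1 w with hc
    have hcpow : c ^ p ^ σ = 1 := by
      obtain ⟨A, hA⟩ := geo_prime_pow D.hp2 D.ht1 σ (D.dvd_pow_sub_one' w)
      rw [sub_eq_iff_eq_add] at hA
      rw [hc, el_pow, one_mul, el, show w * p ^ σ = p ^ D.β * w' by
        rw [hwdef, mul_assoc, mul_comm w', ← mul_assoc, ← pow_add]; congr 2; omega,
        pow_mul D.b, hs, ← zpow_natCast, ← zpow_mul, ← zpow_add, D.zpow_a_eq_one_iff, hA,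
        show (p : ℤ) ^ (D.t + σ) * A + (p : ℤ) ^ σ + (p : ℤ) ^ σ * s0 * (w' : ℤ)
          = (p : ℤ) ^ (D.t + σ) * A + (p : ℤ) ^ σ * (1 + s0 * (w' : ℤ)) by ring]
      exact dvd_add ((pow_dvd_pow _ (by omega)).mul_right A) (hw.mul_left _)
    have hinter : ∀ x : ℤ, D.a ^ x ∈ zpowers D.b → (p : ℤ) ^ σ ∣ x := by
      intro x hx
      obtain ⟨m, hm⟩ := mem_powers_iff_mem_zpowers.mpr hx
      have hm' : D.b ^ m = D.a ^ x := hm
      obtain ⟨q, rfl⟩ := (D.hb m).mp (hm' ▸ zpow_mem_zpowers _ _)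
      rw [pow_mul, hs, ← zpow_natCast, ← zpow_mul, D.zpow_a_eq_iff, ← dvd_neg, neg_sub] at hm'
      have := (pow_dvd_pow (p : ℤ) hσα.le).trans hm'
      rwa [dvd_sub_left (dvd_mul_of_dvd_left (dvd_mul_right _ _) _)] at this
    have hmem : ∀ k : ℕ, c ^ k ∈ zpowers D.b → p ^ σ ∣ k := fun k hk => by
      rw [hc, el_pow, one_mul, el, mul_mem_cancel_right (pow_mem (mem_zpowers _) _)] at hk
      exact (pow_dvd_geo_iff D.hp2 D.ht1 (D.dvd_pow_sub_one' w) σ k).mp (hinter _ hk)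
    have hord : orderOf c = p ^ σ := Nat.dvd_antisymm (orderOf_dvd_of_pow_eq_one hcpow)
      (hmem _ (by rw [pow_orderOf_eq_one]; exact one_mem _))
    have hbord : orderOf D.b = p ^ (D.β + (D.α - σ)) := by
      refine Nat.dvd_antisymm (orderOf_dvd_of_pow_eq_one ?_) ?_
      · rw [pow_add, pow_mul, hs, ← zpow_natCast, ← zpow_mul, D.zpow_a_eq_one_iff]
        exact ⟨s0, by
          push_cast
          rw [show (p : ℤ) ^ D.α = (p : ℤ) ^ σ * (p : ℤ) ^ (D.α - σ) by rw [← pow_add]; congr 1; omega]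
          ring⟩
      · obtain ⟨q, hq⟩ := (D.hb _).mp (by rw [pow_orderOf_eq_one]; exact one_mem _ : D.b ^ orderOf D.b ∈ zpowers D.a)
        have h1 := pow_orderOf_eq_one D.b
        rw [hq, pow_mul, hs, ← zpow_natCast, ← zpow_mul, D.zpow_a_eq_one_iff,
          show (p : ℤ) ^ D.α = (p : ℤ) ^ σ * (p : ℤ) ^ (D.α - σ) by rw [← pow_add]; congr 1; omega,
          mul_assoc, mul_dvd_mul_iff_left (pow_ne_zero _ hpZ.ne_zero)] at h1
        have h2 := (((hpZ.coprime_iff_not_dvd).mpr hs0).pow_left).dvd_of_dvd_mul_left h1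
        rw [hq, pow_add]
        exact Nat.mul_dvd_mul_left _ (by exact_mod_cast h2)
    refine ⟨zpowers c, zpowers D.b, inferInstance, inferInstance, ?_, ?_⟩
    · rw [eq_bot_iff]
      rintro g ⟨hgc, hgb⟩
      obtain ⟨k, rfl⟩ := mem_powers_iff_mem_zpowers.mpr hgc
      rw [mem_bot]
      obtain ⟨q, rfl⟩ := hmem k hgb
      show c ^ (p ^ σ * q) = 1
      rw [pow_mul, hcpow, one_pow]
    · rw [Nat.card_zpowers, Nat.card_zpowers, hord, hbord, D.card_group, ← pow_add]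
      congr 1
      omega

end Cfsg.Agent.Metacyclic.Data
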