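import Cfsg.Agent.Metacyclic.Basic

/-!
Subgroups of metacyclic `p`-groups, `p` odd: congruence subgroups, orders, commutators, centralisers.
-/

set_option autoImplicit false

open Subgroup
open scoped commutatorElement

namespace Cfsg.Agent.Metacyclic.Data

variable {p : ℕ} {G : Type*} [Group G] [hp : Fact p.Prime] (D : Data p G)

omit hp in
theorem dvd_pow_sub_one' (y : ℕ) : (p : ℤ) ^ D.t ∣ D.r ^ y - 1 := dvd_pow_sub_one D.htr y

/-- Elements with both coordinates divisible by `p ^ k`. -/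
def InCong (k : ℕ) (g : G) : Prop := ∃ x : ℤ, ∃ y : ℕ, (p : ℤ) ^ k ∣ x ∧ p ^ k ∣ y ∧ g = D.el x y

variable [Finite G]

/-- The congruence subgroup of level `k`. -/
def cong (k : ℕ) : Subgroup G :=
  Subgroup.closure {g | D.InCong k g}

omit hp in
theorem mem_cong {k : ℕ} {g : G} : g ∈ D.cong k ↔ D.InCong k g := by
  refine ⟨fun h => ?_, fun h => subset_closure h⟩
  induction h using closure_induction_left with
  | one => exact ⟨0, 0, dvd_zero _, dvd_zero _, D.el_zero.symm⟩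
  | mul_left u hu v _ hv =>
    obtain ⟨x, y, hx, hy, rfl⟩ := hu
    obtain ⟨z, w, hz, hw, rfl⟩ := hv
    exact ⟨_, _, dvd_add hx (hz.mul_left _), dvd_add hy hw, D.el_mul x z y w⟩
  | inv_mul_cancel u hu v _ hv =>
    obtain ⟨x, y, hx, hy, rfl⟩ := hu
    obtain ⟨z, w, hz, hw, rfl⟩ := hv
    obtain ⟨m, hm⟩ : ∃ m, (D.el x y)⁻¹ = D.el x y ^ m :=
      ⟨_, inv_eq_of_mul_eq_one_right (by rw [← pow_succ', Nat.sub_add_cancel
        (orderOf_pos (D.el x y)), pow_orderOf_eq_one])⟩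
    rw [hm, el_pow]
    exact ⟨_, _, dvd_add (hx.mul_right _) (hz.mul_left _), dvd_add (hy.mul_right _) hw, D.el_mul _ z _ w⟩

theorem el_mem_cong_iff {k : ℕ} (hk : k ≤ D.n) (x : ℤ) (y : ℕ) :
    D.el x y ∈ D.cong k ↔ (p : ℤ) ^ k ∣ x ∧ p ^ k ∣ y := by
  rw [mem_cong]
  refine ⟨fun ⟨x', y', hx, hy, h⟩ => ?_, fun h => ⟨x, y, h.1, h.2, rfl⟩⟩
  obtain ⟨h1, h2⟩ := D.coord h hk
  exact ⟨h1.mpr hx, h2.mpr hy⟩

theorem pow_b_β_mem : ∃ s : ℤ, D.b ^ p ^ D.β = D.a ^ s := by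
  obtain ⟨s, hs⟩ := mem_zpowers_iff.mp ((D.hb (p ^ D.β)).mpr dvd_rfl)
  exact ⟨s, hs.symm⟩

/-- Orders of subgroups from their normal form data. -/
theorem card_mul_pow (H : Subgroup G) (i j : ℕ) (x₀ : ℤ) (hi : i ≤ D.α) (hj : j ≤ D.β)
    (ha : ∀ x : ℤ, D.a ^ x ∈ H ↔ (p : ℤ) ^ i ∣ x) (hh : D.el x₀ (p ^ j) ∈ H)
    (hy : ∀ (x : ℤ) (y : ℕ), D.el x y ∈ H → p ^ j ∣ y) :
    Nat.card H * p ^ (i + j) = p ^ (D.α + D.β) := by
  have e : Nat.card H = p ^ (D.α - i) * p ^ (D.β - j) := by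
    suffices hb : Nat.card (Fin (p ^ (D.α - i)) × Fin (p ^ (D.β - j))) = Nat.card H by
      rw [← hb, Nat.card_prod, Nat.card_fin, Nat.card_fin]
    refine Nat.card_congr (Equiv.ofBijective
      (fun uv : Fin (p ^ (D.α - i)) × Fin (p ^ (D.β - j)) =>
        (⟨D.a ^ ((p : ℤ) ^ i * (uv.1 : ℕ)) * D.el x₀ (p ^ j) ^ (uv.2 : ℕ),
          mul_mem ((ha _).mpr (dvd_mul_right _ _)) (pow_mem hh _)⟩ : H)) ⟨?_, ?_⟩)
    · rintro ⟨u, v⟩ ⟨u', v'⟩ h
      have h' := congrArg Subtype.val h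
      simp only at h'
      have hv : v = v' := by
        by_contra hne
        wlog hlt : (v : ℕ) < v' generalizing u v u' v'
        · exact this u' v' u v h.symm h'.symm (Ne.symm hne)
            (by have := Fin.val_ne_of_ne hne; omega)
        have h1 : D.el x₀ (p ^ j) ^ ((v' : ℕ) - v) ∈ zpowers D.a := by
          rw [pow_sub _ hlt.le, show D.el x₀ (p ^ j) ^ (v' : ℕ) * (D.el x₀ (p ^ j) ^ (v : ℕ))⁻¹
            = (D.a ^ ((p : ℤ) ^ i * (u' : ℕ)))⁻¹ * D.a ^ ((p : ℤ) ^ i * (u : ℕ)) by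
              rw [eq_inv_mul_iff_mul_eq, ← mul_assoc, ← h']; group]
          exact mul_mem (inv_mem (zpow_mem_zpowers _ _)) (zpow_mem_zpowers _ _)
        rw [el_pow, el, mul_mem_cancel_left (zpow_mem_zpowers _ _), D.hb,
          show p ^ D.β = p ^ j * p ^ (D.β - j) by rw [← pow_add]; congr 1; omega, Nat.mul_dvd_mul_iff_left (pow_pos hp.out.pos _)] at h1
        have := Nat.le_of_dvd (by omega) h1
        have := v'.2
        omega
      subst hv
      have h1 := (D.zpow_a_eq_iff _ _).mp (mul_right_cancel h')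
      rw [← mul_sub, show (p : ℤ) ^ D.α = (p : ℤ) ^ i * (p : ℤ) ^ (D.α - i) by rw [← pow_add]; congr 1; omega,
        mul_dvd_mul_iff_left (pow_ne_zero _ (by exact_mod_cast hp.out.ne_zero))] at h1
      have h2 : ((u : ℕ) : ℤ) - (u' : ℕ) = 0 :=
        Int.eq_zero_of_abs_lt_dvd h1 (by
          have := u.2; have := u'.2
          have h3 : ((p ^ (D.α - i) : ℕ) : ℤ) = (p : ℤ) ^ (D.α - i) := by push_cast; rfl
          rw [← h3, abs_lt]; omega)
      exact Prod.ext (Fin.ext (by exact_mod_cast sub_eq_zero.mp h2)) rfl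
    · rintro ⟨g, hg⟩
      obtain ⟨x, y, rfl⟩ := D.hgen' g
      obtain ⟨m, hm⟩ := hy x y hg
      set h := D.el x₀ (p ^ j)
      have hpos : 0 < p ^ (D.β - j) := pow_pos hp.out.pos _
      set v := m % p ^ (D.β - j)
      have h1 : D.el x y * (h ^ v)⁻¹ ∈ zpowers D.a := by
        obtain ⟨s, hs⟩ := D.pow_b_β_mem
        set q := m / p ^ (D.β - j)
        have e1 : y = p ^ D.β * q + p ^ j * v := by
          rw [hm, show D.β = j + (D.β - j) by omega, pow_add, mul_assoc, ← mul_add, Nat.div_add_mod]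
        have e2 : h ^ v = D.a ^ (x₀ * geo (D.r ^ p ^ j) v) * D.b ^ (p ^ j * v) := by
          rw [D.el_pow]; rfl
        rw [e2, el, e1, pow_add, pow_mul D.b (p ^ D.β), hs, ← zpow_natCast (D.a ^ s), ← zpow_mul]
        rw [show D.a ^ x * (D.a ^ (s * (q : ℤ)) * D.b ^ (p ^ j * v)) *
          (D.a ^ (x₀ * geo (D.r ^ p ^ j) v) * D.b ^ (p ^ j * v))⁻¹
          = D.a ^ x * D.a ^ (s * (q : ℤ)) * (D.a ^ (x₀ * geo (D.r ^ p ^ j) v))⁻¹ by group]
        exact mul_mem (mul_mem (zpow_mem_zpowers _ _) (zpow_mem_zpowers _ _)) (inv_mem (zpow_mem_zpowers _ _))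
      obtain ⟨z, hz⟩ := mem_zpowers_iff.mp h1
      have hzH : D.a ^ z ∈ H := hz ▸ mul_mem hg (inv_mem (pow_mem hh v))
      obtain ⟨c, rfl⟩ := (ha z).mp hzH
      have hpos' : (0 : ℤ) < (p : ℤ) ^ (D.α - i) := pow_pos (by exact_mod_cast hp.out.pos) _
      refine ⟨⟨⟨(c % (p : ℤ) ^ (D.α - i)).toNat, ?_⟩, ⟨v, Nat.mod_lt _ hpos⟩⟩, Subtype.ext ?_⟩
      · rw [Int.toNat_lt (Int.emod_nonneg _ hpos'.ne')]
        push_cast
        exact Int.emod_lt_of_pos _ hpos'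
      · show D.a ^ ((p : ℤ) ^ i * ((c % (p : ℤ) ^ (D.α - i)).toNat : ℕ)) * h ^ v = D.el x y
        rw [← mul_inv_cancel_right (D.el x y) (h ^ v)⁻¹, inv_inv, ← hz]
        congr 1
        rw [Int.toNat_of_nonneg (Int.emod_nonneg _ hpos'.ne'), D.zpow_a_eq_iff, ← mul_sub,
          show (p : ℤ) ^ D.α = (p : ℤ) ^ i * (p : ℤ) ^ (D.α - i) by rw [← pow_add]; congr 1; omega]
        exact mul_dvd_mul_left _ ⟨-(c / (p : ℤ) ^ (D.α - i)), by rw [Int.emod_def]; ring⟩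
  rw [e, ← pow_add, ← pow_add]
  congr 1
  omega

theorem card_group : Nat.card G = p ^ (D.α + D.β) := by
  have := D.card_mul_pow (⊤ : Subgroup G) 0 0 0 (Nat.zero_le _) (Nat.zero_le _) (by simp) (mem_top _) (by simp)
  simpa using this

theorem card_cong {k : ℕ} (hk : k ≤ D.n) : Nat.card (D.cong k) * p ^ (2 * k) = Nat.card G := by
  rw [D.card_group, two_mul]
  refine D.card_mul_pow _ k k 0 (hk.trans D.hnα) (hk.trans D.n_le_β) (fun x => ?_) ?_ (fun x y h => ?_)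
  · rw [show D.a ^ x = D.el x 0 by simp [el], D.el_mem_cong_iff hk]; simp
  · rw [D.el_mem_cong_iff hk]; simp
  · exact ((D.el_mem_cong_iff hk x y).mp h).2

theorem cong_antitone {i k : ℕ} (h : i ≤ k) : D.cong k ≤ D.cong i := fun g hg => by
  obtain ⟨x, y, hx, hy, rfl⟩ := D.mem_cong.mp hg
  exact D.mem_cong.mpr ⟨x, y, (pow_dvd_pow _ h).trans hx, (pow_dvd_pow _ h).trans hy, rfl⟩

theorem cong_zero : D.cong 0 = ⊤ := eq_top_iff.mpr fun g _ => by
  obtain ⟨x, y, rfl⟩ := D.hgen' g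
  exact D.mem_cong.mpr ⟨x, y, by simp, by simp, rfl⟩

/-- The size of a conjugacy class, by the level of the element. -/
theorem index_centralizer {g : G} {k : ℕ} (hk : k ≤ D.n) (hg : g ∈ D.cong k)
    (hmax : k = D.n ∨ g ∉ D.cong (k + 1)) :
    (Subgroup.centralizer ({g} : Set G)).index = p ^ (D.n - k) := by
  obtain ⟨x, y, rfl⟩ := D.hgen' g
  obtain ⟨hx, hy⟩ := (D.el_mem_cong_iff hk x y).mp hg
  rw [← relIndex_top_right, index_centralizer_of_image ⊤ _ (D.comm k : Set G) ?_,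
    ← D.card_comm k]
  · rfl
  ext c
  simp only [Set.mem_image, coe_top, Set.mem_univ, true_and, SetLike.mem_coe, mem_comm]
  constructor
  · rintro ⟨h, rfl⟩
    obtain ⟨z, w, rfl⟩ := D.hgen' h
    exact ⟨_, dvd_sub (hx.mul_right _) (((D.pow_dvd_S_iff k y).mpr hy).mul_left _), D.conj_mul_inv x z y w⟩
  · rintro ⟨X, hX, rfl⟩
    rcases hmax with rfl | hmax
    · refine ⟨1, ?_⟩
      simp only [one_mul, inv_one, mul_one, mul_inv_cancel]
      exact ((D.zpow_a_eq_one_iff _).mpr ((D.hiff X).mpr hX)).symm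
    by_cases hkn : k = D.n
    · refine ⟨1, ?_⟩
      simp only [one_mul, inv_one, mul_one, mul_inv_cancel]
      exact ((D.zpow_a_eq_one_iff _).mpr ((D.hiff X).mpr (hkn ▸ hX))).symm
    have hk1 : k + 1 ≤ D.n := by omega
    rw [D.el_mem_cong_iff hk1, not_and_or] at hmax
    have hpZ : Prime (p : ℤ) := Nat.prime_iff_prime_int.mp hp.out
    -- it suffices to solve the congruence modulo `p ^ n`
    suffices hsol : ∃ (z : ℤ) (w : ℕ), (p : ℤ) ^ D.n ∣ X - (x * D.S w - z * D.S y) by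
      obtain ⟨z, w, hzw⟩ := hsol
      refine ⟨D.el z w, ?_⟩
      rw [D.conj_mul_inv, D.zpow_a_eq_iff, ← mul_sub, D.hiff, ← neg_sub, dvd_neg]
      exact hzw
    obtain ⟨c, rfl⟩ := hX
    rcases hmax with h | h
    · obtain ⟨d, rfl⟩ := hx
      have hd : ¬ (p : ℤ) ∣ d := fun h' => h (by rw [pow_succ]; exact mul_dvd_mul_left _ h')
      obtain ⟨u, v, huv⟩ := ((hpZ.coprime_iff_not_dvd).mpr hd).pow_left (m := D.n)
      obtain ⟨w, e, he⟩ := exists_geo_modEq D.hp2 D.ht1 D.htr D.n (v * c)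
      refine ⟨0, w, -((p : ℤ) ^ k * (d * e)) + (p : ℤ) ^ k * (u * c), ?_⟩
      rw [sub_eq_iff_eq_add] at he
      simp only [S, he, zero_mul, sub_zero]
      linear_combination (-((p : ℤ) ^ k) * c) * huv
    · have hy1 : ¬ (p : ℤ) ^ (k + 1) ∣ D.S y := fun h' => h ((D.pow_dvd_S_iff _ _).mp h')
      obtain ⟨d, hd⟩ := (D.pow_dvd_S_iff k y).mpr hy
      have hd1 : ¬ (p : ℤ) ∣ d := fun h' => hy1 (by rw [hd, pow_succ]; exact mul_dvd_mul_left _ h')
      obtain ⟨u, v, huv⟩ := ((hpZ.coprime_iff_not_dvd).mpr hd1).pow_left (m := D.n)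
      refine ⟨-(v * c), 0, (p : ℤ) ^ k * (u * c), ?_⟩
      simp only [S] at hd ⊢
      rw [hd, geo_zero, mul_zero]
      linear_combination (-((p : ℤ) ^ k) * c) * huv

theorem exists_level (g : G) : ∃ k, k ≤ D.n ∧ g ∈ D.cong k ∧ (k = D.n ∨ g ∉ D.cong (k + 1)) := by
  classical
  refine ⟨Nat.findGreatest (fun k => g ∈ D.cong k) D.n, Nat.findGreatest_le _,
    Nat.findGreatest_spec (P := fun k => g ∈ D.cong k) (Nat.zero_le _) (D.cong_zero ▸ mem_top g), ?_⟩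
  rcases (Nat.findGreatest_le D.n : Nat.findGreatest (fun k => g ∈ D.cong k) D.n ≤ D.n).eq_or_lt with h | h
  · exact Or.inl h
  · exact Or.inr (Nat.findGreatest_is_greatest (Nat.lt_succ_self _) h)

theorem index_centralizer_le_iff (g : G) {k : ℕ} (hk : k ≤ D.n) :
    (Subgroup.centralizer ({g} : Set G)).index ≤ p ^ (D.n - k) ↔ g ∈ D.cong k := by
  obtain ⟨m, hm, hgm, hmax⟩ := D.exists_level g
  rw [D.index_centralizer hm hgm hmax, Nat.pow_le_pow_iff_right hp.out.one_lt]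
  constructor
  · intro h; exact D.cong_antitone (by omega) hgm
  · intro h
    by_contra hlt
    rcases hmax with rfl | hmax
    · omega
    · exact hmax (D.cong_antitone (by omega) h)

theorem center_eq : Subgroup.center G = D.cong D.n := by
  ext g
  have h0 : (Subgroup.centralizer ({g} : Set G)).index ≤ 1 ↔ (Subgroup.centralizer ({g} : Set G)).index = 1 :=
    ⟨fun h => le_antisymm h (Nat.pos_of_ne_zero index_ne_zero_of_finite), le_of_eq⟩
  rw [← D.index_centralizer_le_iff g le_rfl, Nat.sub_self, pow_zero, h0, index_eq_one, eq_top_iff, mem_center_iff]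
  exact ⟨fun h x _ => mem_centralizer_singleton_iff.mpr (h x),
    fun h x => mem_centralizer_singleton_iff.mp (h (mem_top x))⟩

/-- Normal form data of a subgroup. -/
structure Sub (R : Subgroup G) where
  i : ℕ
  j : ℕ
  x : ℤ
  hi : i ≤ D.α
  hj : j ≤ D.β
  ha : ∀ z : ℤ, D.a ^ z ∈ R ↔ (p : ℤ) ^ i ∣ z
  hh : D.el x (p ^ j) ∈ R
  hy : ∀ (z : ℤ) (w : ℕ), D.el z w ∈ R → p ^ j ∣ w
  hgens : R = Subgroup.closure {D.a ^ ((p : ℤ) ^ i), D.el x (p ^ j)}

theorem exists_sub (R : Subgroup G) : Nonempty (D.Sub R) := by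
  classical
  have hexi : ∃ i, D.a ^ ((p : ℤ) ^ i) ∈ R :=
    ⟨D.α, by rw [(D.zpow_a_eq_one_iff _).mpr dvd_rfl]; exact one_mem _⟩
  obtain ⟨s, hs⟩ := D.pow_b_β_mem
  have hexj : ∃ j, ∃ x : ℤ, D.el x (p ^ j) ∈ R :=
    ⟨D.β, -s, by rw [el, hs, ← zpow_add, neg_add_cancel, zpow_zero]; exact one_mem _⟩
  set i := Nat.find hexi with hi
  set j := Nat.find hexj with hj
  obtain ⟨x, hx⟩ := Nat.find_spec hexj
  have hia := Nat.find_spec hexi
  have hiα : i ≤ D.α := Nat.find_min' hexi (by rw [(D.zpow_a_eq_one_iff _).mpr dvd_rfl]; exact one_mem _)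
  have hjβ : j ≤ D.β := Nat.find_min' hexj ⟨-s, by rw [el, hs, ← zpow_add, neg_add_cancel, zpow_zero]; exact one_mem _⟩
  have hpZ : Prime (p : ℤ) := Nat.prime_iff_prime_int.mp hp.out
  have ha : ∀ z : ℤ, D.a ^ z ∈ R ↔ (p : ℤ) ^ i ∣ z := fun z => by
    constructor
    · intro h
      by_contra hnd
      obtain ⟨m, hm, hgcd⟩ := (Int.prime_iff_natAbs_prime.mp hpZ |> fun hP => (Nat.dvd_prime_pow hP).mp
        (Int.natAbs_dvd_natAbs.mpr (Int.gcd_dvd_left ((p : ℤ) ^ i) z) |> fun h => by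
          simpa [Int.natAbs_pow] using h))
      have hg : D.a ^ (Int.gcd ((p : ℤ) ^ i) z : ℤ) ∈ R := by
        rw [Int.gcd_eq_gcd_ab, zpow_add, zpow_mul, zpow_mul]
        exact mul_mem (zpow_mem hia _) (zpow_mem h _)
      rw [hgcd, Int.natAbs_natCast] at hg
      push_cast at hg
      have := Nat.find_min' hexi hg
      apply hnd
      have h1 : m = i := le_antisymm hm this
      have h2 := Int.gcd_dvd_right ((p : ℤ) ^ i) z
      rw [hgcd, Int.natAbs_natCast, h1] at h2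
      exact_mod_cast h2
    · rintro ⟨c, rfl⟩
      rw [zpow_mul]; exact zpow_mem hia c
  have hy : ∀ (z : ℤ) (w : ℕ), D.el z w ∈ R → p ^ j ∣ w := by
    intro z w h
    by_contra hnd
    obtain ⟨m, u, hu, rfl⟩ := Nat.exists_eq_pow_mul_and_not_dvd
      (show w ≠ 0 by rintro rfl; exact hnd (dvd_zero _)) p hp.out.ne_one
    have hmj : m < j := by
      by_contra hh
      exact hnd ((pow_dvd_pow _ (by omega)).mul_right _)
    obtain ⟨k, hk⟩ : ∃ k : ℕ, u * k ≡ 1 [MOD p ^ D.β] := by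
      obtain ⟨k, -, hk⟩ := Nat.exists_mul_mod_eq_one_of_coprime
        (((hp.out.coprime_iff_not_dvd).mpr hu).symm.pow_right (D.β + 1))
        (Nat.one_lt_pow (by omega) hp.out.one_lt)
      exact ⟨k, (show u * k ≡ 1 [MOD p ^ (D.β + 1)] from hk.trans (Nat.mod_eq_of_lt (Nat.one_lt_pow (by omega) hp.out.one_lt)).symm).of_dvd (pow_dvd_pow _ (by omega))⟩
    have h1 : D.el z (p ^ m * u) ^ k ∈ R := pow_mem h k
    rw [el_pow] at h1
    have h2 : ∃ z' : ℤ, D.el z' (p ^ m) ∈ R := by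
      have h3 : D.b ^ (p ^ m * u * k) * (D.b ^ p ^ m)⁻¹ ∈ zpowers D.a := by
        have := D.hnormal
        rw [← QuotientGroup.eq_one_iff, QuotientGroup.mk_mul, QuotientGroup.mk_inv, mul_inv_eq_one,
          QuotientGroup.mk_pow, QuotientGroup.mk_pow, pow_eq_pow_iff_modEq]
        have hord : orderOf ((D.b : G) : G ⧸ zpowers D.a) ∣ p ^ D.β := by
          rw [orderOf_dvd_iff_pow_eq_one, ← QuotientGroup.mk_pow, QuotientGroup.eq_one_iff, D.hb]
        refine Nat.ModEq.of_dvd hord ?_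
        have := hk.mul_left (p ^ m)
        rwa [mul_one, ← mul_assoc] at this
      obtain ⟨e, he⟩ := mem_zpowers_iff.mp h3
      refine ⟨z * geo (D.r ^ (p ^ m * u)) k + e, ?_⟩
      rwa [el, zpow_add, he, mul_assoc, inv_mul_cancel_right]
    have := Nat.find_min' hexj h2
    omega
  refine ⟨⟨i, j, x, hiα, hjβ, ha, hx, hy, le_antisymm (fun g hg => ?_) ?_⟩⟩
  · obtain ⟨z, w, rfl⟩ := D.hgen' g
    obtain ⟨m, rfl⟩ := hy z w hg
    have h1 : D.el z (p ^ j * m) * (D.el x (p ^ j) ^ m)⁻¹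
        = D.a ^ (z - x * geo (D.r ^ p ^ j) m) := by
      rw [el_pow, el, el, zpow_sub]; group
    have h2 : D.a ^ (z - x * geo (D.r ^ p ^ j) m) ∈ R := h1 ▸ mul_mem hg (inv_mem (pow_mem hx m))
    obtain ⟨c, hc⟩ := (ha _).mp h2
    rw [← mul_inv_cancel_right (D.el z (p ^ j * m)) (D.el x (p ^ j) ^ m)⁻¹, inv_inv, h1, hc, zpow_mul]
    refine mul_mem (zpow_mem (Subgroup.subset_closure ?_) _) (pow_mem (Subgroup.subset_closure ?_) _)
    · exact Or.inl rfl
    · exact Or.inr rfl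
  · rw [closure_le]
    rintro g (rfl | rfl)
    · exact (ha _).mpr dvd_rfl
    · exact hx

variable {D} {R : Subgroup G} (Q : D.Sub R)

theorem Sub.card : Nat.card R * p ^ (Q.i + Q.j) = Nat.card G := by
  rw [D.card_group]; exact D.card_mul_pow R Q.i Q.j Q.x Q.hi Q.hj Q.ha Q.hh Q.hy

theorem Sub.commutator_eq : ⁅R, R⁆ = D.comm (Q.i + Q.j) := by
  have := D.comm_normal (Q.i + Q.j)
  set A := D.a ^ ((p : ℤ) ^ Q.i) with hA
  set h := D.el Q.x (p ^ Q.j)
  have hAel : A = D.el ((p : ℤ) ^ Q.i) 0 := by simp [hA, el]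
  have hcom : h * A * h⁻¹ * A⁻¹ = D.a ^ ((D.r - 1) * ((p : ℤ) ^ Q.i * D.S (p ^ Q.j))) := by
    rw [hAel, D.conj_mul_inv]; simp [S, geo_zero]
  obtain ⟨u, hu⟩ := (D.pow_dvd_S_iff Q.j (p ^ Q.j)).mpr dvd_rfl
  refine le_antisymm ?_ ?_
  · let π := QuotientGroup.mk' (D.comm (Q.i + Q.j))
    have hAh : Commute (π h) (π A) := by
      refine commutatorElement_eq_one_iff_commute.mp ?_
      rw [← map_commutatorElement, QuotientGroup.mk'_apply, QuotientGroup.eq_one_iff]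
      rw [commutatorElement_def, hcom]
      exact D.mem_comm.mpr ⟨_, ⟨u, by rw [hu, pow_add, mul_assoc]⟩, rfl⟩
    have hle : (R.map π) = Subgroup.closure {π A, π h} := (congrArg (Subgroup.map π) Q.hgens).trans (by
      rw [MonoidHom.map_closure, Set.image_pair])
    have hc : IsMulCommutative (Subgroup.closure {π A, π h}) := isMulCommutative_closure (by
      rintro a (rfl | rfl) b (rfl | rfl)
      exacts [rfl, hAh.symm.eq, hAh.eq, rfl])
    rw [commutator_le]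
    intro g₁ hg₁ g₂ hg₂
    rw [← QuotientGroup.eq_one_iff, ← QuotientGroup.mk'_apply, map_commutatorElement,
      commutatorElement_eq_one_iff_commute]
    exact setLike_mul_comm (s := Subgroup.closure {π A, π h}) (hle ▸ mem_map_of_mem π hg₁) (hle ▸ mem_map_of_mem π hg₂)
  · have hmem : D.a ^ ((D.r - 1) * ((p : ℤ) ^ Q.i * D.S (p ^ Q.j))) ∈ ⁅R, R⁆ := by
      rw [← hcom, ← commutatorElement_def]
      exact commutator_mem_commutator Q.hh ((Q.ha _).mpr dvd_rfl)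
    have hu1 : ¬ (p : ℤ) ∣ u := fun h' => by
      have := (D.pow_dvd_S_iff (Q.j + 1) (p ^ Q.j)).mp (by rw [hu, pow_succ]; exact mul_dvd_mul_left _ h')
      exact absurd ((Nat.pow_dvd_pow_iff_le_right hp.out.one_lt).mp this) (by omega)
    obtain ⟨c, e, hce⟩ := (((Nat.prime_iff_prime_int.mp hp.out).coprime_iff_not_dvd).mpr hu1).pow_left (m := D.n)
    intro g hg
    obtain ⟨X, ⟨d, rfl⟩, rfl⟩ := D.mem_comm.mp hg
    have hpow := zpow_mem hmem (e * d)
    rw [← zpow_mul] at hpow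
    convert hpow using 1
    rw [D.zpow_a_eq_iff, show (D.r - 1) * ((p : ℤ) ^ (Q.i + Q.j) * d) -
      (D.r - 1) * ((p : ℤ) ^ Q.i * D.S (p ^ Q.j)) * (e * d) =
      (D.r - 1) * ((p : ℤ) ^ (Q.i + Q.j) * d - (p : ℤ) ^ Q.i * D.S (p ^ Q.j) * (e * d)) by ring, D.hiff]
    exact ⟨(p : ℤ) ^ (Q.i + Q.j) * d * c, by rw [hu, pow_add]; linear_combination (-((p : ℤ) ^ Q.i * (p : ℤ) ^ Q.j * d)) * hce⟩

theorem Sub.card_commutator : Nat.card (⁅R, R⁆ : Subgroup G) = p ^ (D.n - (Q.i + Q.j)) := by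
  rw [Q.commutator_eq, D.card_comm]

theorem Sub.isMulCommutative_iff : IsMulCommutative R ↔ D.n ≤ Q.i + Q.j := by
  rw [← Subgroup.le_centralizer_iff_isMulCommutative, ← commutator_eq_bot_iff_le_centralizer,
    Q.commutator_eq, ← card_eq_one, D.card_comm, Nat.pow_eq_one]
  simp only [hp.out.ne_one, false_or, Nat.sub_eq_zero_iff_le]

theorem card_commutator_top : Nat.card (commutator G) = p ^ D.n := by
  obtain ⟨Q⟩ := D.exists_sub (⊤ : Subgroup G)
  have h := Q.card_commutator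
  have h1 := Q.card
  rw [Subgroup.card_top] at h1
  have h2 : Q.i + Q.j = 0 := by
    have h3 : p ^ (Q.i + Q.j) = 1 := by
      conv_rhs at h1 => rw [← mul_one (Nat.card G)]
      exact Nat.eq_of_mul_eq_mul_left Nat.card_pos h1
    exact (Nat.pow_eq_one.mp h3).resolve_left hp.out.ne_one
  rwa [h2, Nat.sub_zero] at h

/-- Centralisers of subgroups containing the centre. -/
theorem Sub.index_centralizer (hZ : Subgroup.center G ≤ R) :
    (Subgroup.centralizer (R : Set G)).index * p ^ (Q.i + Q.j) = p ^ (2 * D.n) := by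
  have hpZ : Prime (p : ℤ) := Nat.prime_iff_prime_int.mp hp.out
  have hZa : D.a ^ ((p : ℤ) ^ D.n) ∈ R := hZ (by
    rw [D.center_eq, show D.a ^ ((p : ℤ) ^ D.n) = D.el ((p : ℤ) ^ D.n) 0 by simp [el], D.el_mem_cong_iff le_rfl]; simp)
  have hZb : D.el 0 (p ^ D.n) ∈ R := hZ (by rw [D.center_eq, D.el_mem_cong_iff le_rfl]; simp)
  have hin : Q.i ≤ D.n := (pow_dvd_pow_iff (by exact_mod_cast hp.out.ne_zero) hpZ.not_isUnit).mp ((Q.ha _).mp hZa)
  have hjn : Q.j ≤ D.n := (Nat.pow_dvd_pow_iff_le_right hp.out.one_lt).mp (Q.hy _ _ hZb)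
  set A := D.a ^ ((p : ℤ) ^ Q.i) with hA
  set h := D.el Q.x (p ^ Q.j) with hh
  have hAel : A = D.el ((p : ℤ) ^ Q.i) 0 := by simp [hA, el]
  have hxp : (p : ℤ) ^ Q.j ∣ Q.x * (p : ℤ) ^ (D.n - Q.i) := by
    have h1 : h ^ p ^ (D.n - Q.j) ∈ R := pow_mem Q.hh _
    rw [hh, el_pow, ← pow_add, show Q.j + (D.n - Q.j) = D.n by omega] at h1
    have h2 : D.a ^ (Q.x * geo (D.r ^ p ^ Q.j) (p ^ (D.n - Q.j))) ∈ R := by
      have := mul_mem h1 (inv_mem hZb)
      simpa [el] using this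
    obtain ⟨B, hB⟩ := geo_prime_pow D.hp2 D.ht1 (D.n - Q.j) (D.dvd_pow_sub_one' (p ^ Q.j))
    rw [sub_eq_iff_eq_add] at hB
    have h3 := (Q.ha _).mp h2
    have hu : ¬ (p : ℤ) ∣ (p : ℤ) ^ D.t * B + 1 := fun h' =>
      hpZ.not_dvd_one ((dvd_add_right ((dvd_pow_self _ (by have := D.ht1; omega)).mul_right _)).mp h')
    rw [hB, pow_add, show (p : ℤ) ^ D.t * (p : ℤ) ^ (D.n - Q.j) * B + (p : ℤ) ^ (D.n - Q.j)
      = (p : ℤ) ^ (D.n - Q.j) * ((p : ℤ) ^ D.t * B + 1) by ring, ← mul_assoc] at h3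
    have h4 := (((hpZ.coprime_iff_not_dvd).mpr hu).pow_left).dvd_of_dvd_mul_right h3
    obtain ⟨c, hc⟩ := h4
    refine ⟨c, mul_left_cancel₀ (pow_ne_zero (Q.i) hpZ.ne_zero) (mul_left_cancel₀
      (pow_ne_zero (D.n - Q.j) hpZ.ne_zero) ?_)⟩
    calc (p : ℤ) ^ (D.n - Q.j) * ((p : ℤ) ^ Q.i * (Q.x * (p : ℤ) ^ (D.n - Q.i)))
        = (Q.x * (p : ℤ) ^ (D.n - Q.j)) * ((p : ℤ) ^ Q.i * (p : ℤ) ^ (D.n - Q.i)) := by ring
      _ = ((p : ℤ) ^ Q.i * c) * ((p : ℤ) ^ (D.n - Q.j) * (p : ℤ) ^ Q.j) := by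
          rw [hc, ← pow_add, ← pow_add]; congr 2 <;> omega
      _ = (p : ℤ) ^ (D.n - Q.j) * ((p : ℤ) ^ Q.i * ((p : ℤ) ^ Q.j * c)) := by ring
  -- the centraliser of `A`
  set CA := Subgroup.centralizer ({A} : Set G)
  have hCA : CA.index = p ^ (D.n - Q.i) := by
    refine D.index_centralizer hin ?_ ?_
    · rw [hAel, D.el_mem_cong_iff hin]; simp
    · by_cases h' : Q.i = D.n
      · exact Or.inl h'
      refine Or.inr ?_
      rw [hAel, D.el_mem_cong_iff (by omega)]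
      intro h''
      exact absurd ((pow_dvd_pow_iff (by exact_mod_cast hp.out.ne_zero) hpZ.not_isUnit).mp h''.1) (by omega)
  have hmemCA : ∀ z w, D.el z w ∈ CA ↔ (p : ℤ) ^ (D.n - Q.i) ∣ D.S w := fun z w => by
    rw [mem_centralizer_singleton_iff, hAel]
    change Commute (D.el z w) (D.el ((p : ℤ) ^ Q.i) 0) ↔ _
    rw [commute_iff, show D.S 0 = 0 from geo_zero _, mul_zero, zero_sub, dvd_neg,
      show (p : ℤ) ^ D.n = (p : ℤ) ^ Q.i * (p : ℤ) ^ (D.n - Q.i) by rw [← pow_add]; congr 1; omega,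
      mul_dvd_mul_iff_left (pow_ne_zero _ hpZ.ne_zero)]
  have himg : (fun c => c * h * c⁻¹ * h⁻¹) '' (CA : Set G) = (D.comm Q.j : Set G) := by
    ext c
    simp only [Set.mem_image, SetLike.mem_coe, mem_comm]
    constructor
    · rintro ⟨g, hg, rfl⟩
      obtain ⟨z, w, rfl⟩ := D.hgen' g
      refine ⟨_, dvd_sub ?_ (((D.pow_dvd_S_iff Q.j _).mpr dvd_rfl).mul_left _), D.conj_mul_inv Q.x z (p ^ Q.j) w⟩
      exact hxp.trans (mul_dvd_mul_left _ ((hmemCA z w).mp hg))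
    · rintro ⟨X, ⟨d, rfl⟩, rfl⟩
      obtain ⟨u, hu⟩ := (D.pow_dvd_S_iff Q.j (p ^ Q.j)).mpr dvd_rfl
      have hu1 : ¬ (p : ℤ) ∣ u := fun h' => by
        have := (D.pow_dvd_S_iff (Q.j + 1) (p ^ Q.j)).mp (by rw [hu, pow_succ]; exact mul_dvd_mul_left _ h')
        exact absurd ((Nat.pow_dvd_pow_iff_le_right hp.out.one_lt).mp this) (by omega)
      obtain ⟨a', b', hab⟩ := ((hpZ.coprime_iff_not_dvd).mpr hu1).pow_left (m := D.n)
      refine ⟨D.el (-(b' * d)) 0, (hmemCA _ _).mpr (by simp [S, geo_zero]), ?_⟩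
      rw [D.conj_mul_inv, D.zpow_a_eq_iff, ← mul_sub, D.hiff, show D.S 0 = 0 from geo_zero _, hu]
      exact ⟨-((p : ℤ) ^ Q.j * d * a'), by linear_combination ((p : ℤ) ^ Q.j * d) * hab⟩
  have hCR : Subgroup.centralizer (R : Set G) = CA ⊓ Subgroup.centralizer {h} := by
    conv_lhs => rw [Q.hgens, centralizer_closure]
    ext g
    simp [CA, A, h, mem_centralizer_iff]
  have h1 : (Subgroup.centralizer ({h} : Set G)).relIndex CA = p ^ (D.n - Q.j) := by
    rw [index_centralizer_of_image CA h _ himg]; exact D.card_comm Q.j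
  rw [hCR, ← relIndex_mul_index (inf_le_left : CA ⊓ Subgroup.centralizer {h} ≤ CA), inf_relIndex_left, h1, hCA,
    ← pow_add, ← pow_add]
  congr 1
  omega

end Cfsg.Agent.Metacyclic.Data
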