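import Mathlib

/-!
Geometric sums of integers congruent to one modulo an odd prime.
-/

set_option autoImplicit false

namespace Cfsg.Agent.Metacyclic

open Finset

/-- The geometric sum `1 + r + ⋯ + r ^ (n - 1)`. -/
def geo (r : ℤ) (n : ℕ) : ℤ := ∑ i ∈ range n, r ^ i

theorem geo_zero (r : ℤ) : geo r 0 = 0 := by simp [geo]

theorem geo_one (r : ℤ) : geo r 1 = 1 := by simp [geo]

theorem geo_succ (r : ℤ) (n : ℕ) : geo r (n + 1) = geo r n + r ^ n := sum_range_succ _ _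

theorem geo_add (r : ℤ) (m n : ℕ) : geo r (m + n) = geo r m + r ^ m * geo r n := by
  simp only [geo, sum_range_add, mul_sum, pow_add]

theorem sub_one_mul_geo (r : ℤ) (n : ℕ) : (r - 1) * geo r n = r ^ n - 1 := by
  induction n with
  | zero => simp [geo]
  | succ n ih => rw [geo_succ, mul_add, ih, pow_succ]; ring

theorem geo_mul (r : ℤ) (m n : ℕ) : geo r (m * n) = geo r m * geo (r ^ m) n := by
  induction n with
  | zero => simp [geo]
  | succ n ih => rw [Nat.mul_succ, geo_add, ih, geo_succ, ← pow_mul]; ring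

theorem exists_geo_eq (d : ℤ) (n : ℕ) :
    ∃ A : ℤ, geo (1 + d) n = n + (n.choose 2 : ℕ) * d + d ^ 2 * A := by
  induction n with
  | zero => exact ⟨0, by simp [geo]⟩
  | succ n ih =>
    obtain ⟨A, hA⟩ := ih
    have hp : ∀ m : ℕ, ∃ C : ℤ, (1 + d) ^ m = 1 + m * d + d ^ 2 * C := by
      intro m
      induction m with
      | zero => exact ⟨0, by simp⟩
      | succ m ihm =>
        obtain ⟨C, hC⟩ := ihm
        exact ⟨C + C * d + m, by rw [pow_succ, hC]; push_cast; ring⟩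
    obtain ⟨C, hC⟩ := hp n
    refine ⟨A + C, ?_⟩
    have h2 : (n + 1).choose 2 = n + n.choose 2 := by
      rw [show (2 : ℕ) = 1 + 1 from rfl, Nat.choose_succ_succ, Nat.choose_one_right]
    rw [geo_succ, hA, hC, h2]
    push_cast; ring

variable {p : ℕ}

theorem dvd_pow_sub_one {t : ℕ} {r : ℤ} (hr : (p : ℤ) ^ t ∣ r - 1) (n : ℕ) :
    (p : ℤ) ^ t ∣ r ^ n - 1 := by
  rw [← sub_one_mul_geo]; exact hr.mul_right _

variable [hp : Fact p.Prime]

/-- The sum over `p` consecutive powers is `p` modulo `p ^ (t + 1)`. -/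
theorem geo_prime (hp2 : p ≠ 2) {t : ℕ} (ht : 1 ≤ t) {r : ℤ} (hr : (p : ℤ) ^ t ∣ r - 1) :
    (p : ℤ) ^ (t + 1) ∣ geo r p - p := by
  obtain ⟨A, hA⟩ := exists_geo_eq (r - 1) p
  rw [add_sub_cancel] at hA
  obtain ⟨e, he⟩ := hp.out.dvd_choose_self (show (2 : ℕ) ≠ 0 by norm_num)
    (lt_of_le_of_ne hp.out.two_le (Ne.symm hp2))
  rw [hA, show ((p : ℤ) + (p.choose 2 : ℕ) * (r - 1) + (r - 1) ^ 2 * A - p)
    = (p.choose 2 : ℕ) * (r - 1) + (r - 1) ^ 2 * A by ring]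
  refine dvd_add ?_ (Dvd.dvd.mul_right ?_ A)
  · rw [he, pow_succ']
    push_cast
    exact mul_dvd_mul (dvd_mul_right _ _) hr
  · exact (pow_dvd_pow _ (by omega : t + 1 ≤ t * 2)).trans (by rw [pow_mul]; exact pow_dvd_pow_of_dvd hr 2)

theorem geo_prime_pow (hp2 : p ≠ 2) {t : ℕ} (ht : 1 ≤ t) (k : ℕ) :
    ∀ {r : ℤ}, (p : ℤ) ^ t ∣ r - 1 → (p : ℤ) ^ (t + k) ∣ geo r (p ^ k) - (p : ℤ) ^ k := by
  induction k with
  | zero => intro r _; simp [geo]
  | succ k ih =>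
    intro r hr
    obtain ⟨A, hA⟩ := ih hr
    obtain ⟨B, hB⟩ := geo_prime hp2 ht (dvd_pow_sub_one hr (p ^ k))
    rw [pow_succ p k, geo_mul]
    rw [sub_eq_iff_eq_add] at hA hB
    rw [hA, hB]
    exact ⟨A + B + (p : ℤ) ^ t * A * B, by simp only [pow_add, pow_succ]; ring⟩

theorem geo_modEq {r : ℤ} (hr : (p : ℤ) ∣ r - 1) (n : ℕ) : (p : ℤ) ∣ geo r n - n := by
  induction n with
  | zero => simp [geo]
  | succ n ih =>
    have h1 := dvd_pow_sub_one (t := 1) (by rwa [pow_one]) n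
    rw [pow_one] at h1
    rw [geo_succ, show geo r n + r ^ n - ((n + 1 : ℕ) : ℤ) = (geo r n - n) + (r ^ n - 1) by push_cast; ring]
    exact dvd_add ih h1

/-- `geo r y` has the same `p`-valuation as `y`. -/
theorem pow_dvd_geo_iff (hp2 : p ≠ 2) {t : ℕ} (ht : 1 ≤ t) {r : ℤ} (hr : (p : ℤ) ^ t ∣ r - 1)
    (k y : ℕ) : (p : ℤ) ^ k ∣ geo r y ↔ p ^ k ∣ y := by
  rcases eq_or_ne y 0 with rfl | hy
  · simp [geo]
  obtain ⟨j, u, hu, rfl⟩ := Nat.exists_eq_pow_mul_and_not_dvd hy p hp.out.ne_one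
  obtain ⟨A, hA⟩ := geo_prime_pow hp2 ht j hr
  rw [sub_eq_iff_eq_add] at hA
  have e : geo r (p ^ j * u) = (p : ℤ) ^ j * ((1 + (p : ℤ) ^ t * A) * geo (r ^ p ^ j) u) := by
    rw [geo_mul, hA, pow_add]; ring
  have hpZ : Prime (p : ℤ) := Nat.prime_iff_prime_int.mp hp.out
  have hpr : (p : ℤ) ∣ r ^ p ^ j - 1 := (dvd_pow_self _ (by omega)).trans (dvd_pow_sub_one hr _)
  have hu1 : ¬ (p : ℤ) ∣ (1 + (p : ℤ) ^ t * A) * geo (r ^ p ^ j) u := by
    intro h
    rcases hpZ.dvd_mul.mp h with h | h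
    · refine hpZ.not_dvd_one ((dvd_add_left ?_).mp h)
      exact (dvd_pow_self _ (by omega)).mul_right _
    · exact hu (Int.natCast_dvd_natCast.mp ((dvd_sub_right h).mp (geo_modEq hpr u)))
  constructor
  · intro h
    rw [e] at h
    refine dvd_mul_of_dvd_left (pow_dvd_pow _ ?_) _
    by_contra hlt
    have h1 : (p : ℤ) ^ (j + 1) ∣ (p : ℤ) ^ j * ((1 + (p : ℤ) ^ t * A) * geo (r ^ p ^ j) u) :=
      (pow_dvd_pow _ (by omega)).trans h
    rw [pow_succ, mul_dvd_mul_iff_left (pow_ne_zero _ hpZ.ne_zero)] at h1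
    exact hu1 h1
  · intro h
    rw [e]
    refine dvd_mul_of_dvd_left (pow_dvd_pow _ ?_) _
    by_contra hlt
    have h1 : p ^ (j + 1) ∣ p ^ j * u := (pow_dvd_pow _ (by omega)).trans h
    rw [pow_succ, Nat.mul_dvd_mul_iff_left (pow_pos hp.out.pos _)] at h1
    exact hu h1

/-- `geo r` is onto modulo powers of `p`. -/
theorem exists_geo_modEq (hp2 : p ≠ 2) {t : ℕ} (ht : 1 ≤ t) {r : ℤ} (hr : (p : ℤ) ^ t ∣ r - 1)
    (n : ℕ) (X : ℤ) : ∃ w : ℕ, (p : ℤ) ^ n ∣ geo r w - X := by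
  have : NeZero (p ^ n) := ⟨pow_ne_zero _ hp.out.ne_zero⟩
  have hpZ : Prime (p : ℤ) := Nat.prime_iff_prime_int.mp hp.out
  let f : Fin (p ^ n) → ZMod (p ^ n) := fun w => (geo r w : ℤ)
  have hcop : IsCoprime ((p : ℤ) ^ n) r := by
    refine IsCoprime.pow_left ?_
    refine (hpZ.coprime_iff_not_dvd).mpr fun h => hpZ.not_dvd_one ?_
    have := dvd_sub h ((dvd_pow_self _ (by omega)).trans hr)
    simpa using this
  have hf : Function.Injective f := by
    intro a b hab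
    by_contra hne
    wlog hlt : (a : ℕ) < b generalizing a b
    · exact this hab.symm (Ne.symm hne) (by have := Fin.val_ne_of_ne hne; omega)
    have h1 : ((p ^ n : ℕ) : ℤ) ∣ geo r b - geo r a := (ZMod.intCast_eq_intCast_iff_dvd_sub _ _ _).mp hab
    obtain ⟨e, he⟩ : ∃ e : ℕ, (b : ℕ) = a + e := ⟨(b : ℕ) - a, by omega⟩
    rw [he, geo_add, add_sub_cancel_left] at h1
    push_cast at h1
    have h2 := (pow_dvd_geo_iff hp2 ht hr n e).mp ((hcop.pow_right).dvd_of_dvd_mul_left h1)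
    have := Nat.le_of_dvd (by omega) h2
    have := b.2
    omega
  obtain ⟨w, hw⟩ := (hf.bijective_of_nat_card_le (by simp)).2 (X : ZMod (p ^ n))
  refine ⟨w, ?_⟩
  have h1 := (ZMod.intCast_eq_intCast_iff_dvd_sub _ _ _).mp hw.symm
  push_cast at h1
  exact h1

end Cfsg.Agent.Metacyclic
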