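import Cfsg.Agent.Metacyclic.Arith
import Cfsg.Prelude

/-!
Metacyclic `p`-groups, `p` odd: normal form and conjugacy.
-/

set_option autoImplicit false

open Subgroup
open scoped commutatorElement

namespace Cfsg.Agent.Metacyclic

/-- Generators of a metacyclic `p`-group with the arithmetic of the action.
`p ^ n` is the order of the derived subgroup. -/
structure Data (p : ℕ) (G : Type*) [Group G] where
  a : G
  b : G
  α : ℕ
  β : ℕ
  n : ℕ
  t : ℕ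
  r : ℤ
  hp2 : p ≠ 2
  ha : orderOf a = p ^ α
  hnormal : (zpowers a).Normal
  hb : ∀ k : ℕ, b ^ k ∈ zpowers a ↔ p ^ β ∣ k
  hgen : ∀ g : G, ∃ x : ℤ, ∃ y : ℕ, g = a ^ x * b ^ y
  hact : b * a * b⁻¹ = a ^ r
  ht1 : 1 ≤ t
  htr : (p : ℤ) ^ t ∣ r - 1
  hiff : ∀ X : ℤ, (p : ℤ) ^ α ∣ (r - 1) * X ↔ (p : ℤ) ^ n ∣ X
  hnα : n ≤ α
  hαnt : α ≤ n + t

variable {p : ℕ} {G : Type*} [Group G] [hp : Fact p.Prime]

/-- Existence of normal form data over a given cyclic normal subgroup. -/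
theorem exists_data_of [Finite G] (hp2 : p ≠ 2) (hG : IsPGroup p G) (N : Subgroup G) (hN : N.Normal)
    (hNc : IsCyclic N) (hQc : IsCyclic (G ⧸ N)) : ∃ D : Data p G, zpowers D.a = N := by
  obtain ⟨⟨a, haN⟩, ha⟩ := hNc.exists_generator
  have hNa : N = zpowers a := by
    refine le_antisymm (fun x hx => ?_) (zpowers_le.mpr haN)
    obtain ⟨k, hk⟩ := mem_zpowers_iff.mp (ha ⟨x, hx⟩)
    exact ⟨k, congrArg Subtype.val hk⟩
  obtain ⟨q, hq⟩ := hQc.exists_generator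
  obtain ⟨b, rfl⟩ := QuotientGroup.mk'_surjective N q
  obtain ⟨α, hα⟩ := IsPGroup.iff_orderOf.mp hG a
  obtain ⟨β, hβ⟩ := IsPGroup.iff_orderOf.mp (hG.to_quotient N) (QuotientGroup.mk' N b)
  have hact : ∃ r : ℤ, b * a * b⁻¹ = a ^ r := by
    obtain ⟨r, hr⟩ := mem_zpowers_iff.mp (hNa ▸ hN.conj_mem a haN b : b * a * b⁻¹ ∈ zpowers a)
    exact ⟨r, hr.symm⟩
  obtain ⟨r, hr⟩ := hact
  have hb : ∀ k : ℕ, b ^ k ∈ zpowers a ↔ p ^ β ∣ k := fun k => by
    rw [← hNa, ← QuotientGroup.eq_one_iff, ← QuotientGroup.mk'_apply, map_pow, ← hβ,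
      orderOf_dvd_iff_pow_eq_one]
  have hgen : ∀ g : G, ∃ x : ℤ, ∃ y : ℕ, g = a ^ x * b ^ y := fun g => by
    obtain ⟨y, hy⟩ := mem_powers_iff_mem_zpowers.mpr (hq (QuotientGroup.mk' N g))
    have h1 : g * (b ^ y)⁻¹ ∈ N := by
      rw [← QuotientGroup.eq_one_iff, ← QuotientGroup.mk'_apply, map_mul, map_inv, map_pow]
      show QuotientGroup.mk' N g * (QuotientGroup.mk' N b ^ y)⁻¹ = 1
      rw [show QuotientGroup.mk' N b ^ y = QuotientGroup.mk' N g from hy, mul_inv_cancel]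
    rw [hNa] at h1
    obtain ⟨x, hx⟩ := mem_zpowers_iff.mp h1
    exact ⟨x, y, by rw [hx, inv_mul_cancel_right]⟩
  rcases Nat.eq_zero_or_pos α with rfl | hα0
  · refine ⟨⟨a, b, 0, β, 0, 1, 1 + p, hp2, hα, hNa ▸ hN, hb, hgen, ?_, le_rfl, by simp, fun X => by simp, le_rfl, by omega⟩, hNa.symm⟩
    rw [pow_zero] at hα
    rw [orderOf_eq_one_iff.mp hα]; simp
  have hpZ : Prime (p : ℤ) := Nat.prime_iff_prime_int.mp hp.out
  have hrp : (p : ℤ) ∣ r - 1 := by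
    have hiter : ∀ k : ℕ, b ^ k * a * (b ^ k)⁻¹ = a ^ r ^ k := by
      intro k
      induction k with
      | zero => simp
      | succ k ih =>
        calc b ^ (k + 1) * a * (b ^ (k + 1))⁻¹ = b * (b ^ k * a * (b ^ k)⁻¹) * b⁻¹ := by
              rw [pow_succ']; group
          _ = (b * a * b⁻¹) ^ r ^ k := by rw [ih, conj_zpow]
          _ = a ^ r ^ (k + 1) := by rw [hr, ← zpow_mul, pow_succ']
    have h1 : a ^ r ^ p ^ β = a ^ (1 : ℤ) := by
      rw [← hiter, zpow_one]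
      obtain ⟨z, hz⟩ := mem_zpowers_iff.mp ((hb (p ^ β)).mpr dvd_rfl)
      rw [← hz]; group
    have h2 : (p : ℤ) ∣ r ^ p ^ β - 1 := by
      have := orderOf_dvd_sub_iff_zpow_eq_zpow.mpr h1
      rw [hα] at this
      push_cast at this
      exact (dvd_pow_self _ (by omega)).trans this
    have h3 : ((r ^ p ^ β : ℤ) : ZMod p) = ((1 : ℤ) : ZMod p) :=
      (ZMod.intCast_eq_intCast_iff_dvd_sub _ _ _).mpr (by rw [show (1 : ℤ) - r ^ p ^ β = -(r ^ p ^ β - 1) by ring]; exact dvd_neg.mpr h2)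
    have h4 : ∀ k, (r : ZMod p) ^ p ^ k = r := fun k => by
      induction k with
      | zero => simp
      | succ k ih => rw [pow_succ, pow_mul, ih, ZMod.pow_card]
    rw [Int.cast_pow, h4] at h3
    have h5 := (ZMod.intCast_eq_intCast_iff_dvd_sub _ _ _).mp h3
    rw [show r - 1 = -(1 - r) by ring]
    exact dvd_neg.mpr h5
  by_cases hfull : (p : ℤ) ^ α ∣ r - 1
  · exact ⟨⟨a, b, α, β, 0, α, r, hp2, hα, hNa ▸ hN, hb, hgen, hr, hα0, hfull,
      fun X => by simp only [pow_zero, one_dvd, iff_true]; exact hfull.mul_right X, Nat.zero_le _, by omega⟩, hNa.symm⟩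
  classical
  have hex : ∃ k, ¬ (p : ℤ) ^ k ∣ r - 1 := ⟨α, hfull⟩
  set m := Nat.find hex with hm
  have hm1 : ¬ (p : ℤ) ^ m ∣ r - 1 := Nat.find_spec hex
  have hm2 : 2 ≤ m := by
    by_contra h
    apply hm1
    interval_cases m <;> simp [hrp]
  have hmα : m ≤ α := Nat.find_min' hex hfull
  have ht : (p : ℤ) ^ (m - 1) ∣ r - 1 := not_not.mp (Nat.find_min hex (show m - 1 < m by omega))
  obtain ⟨c, hc⟩ := ht
  have hpc : ¬ (p : ℤ) ∣ c := fun h => hm1 (by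
    rw [hc, show m = m - 1 + 1 by omega, pow_succ, Nat.add_sub_cancel]
    exact mul_dvd_mul_left _ h)
  refine ⟨⟨a, b, α, β, α - (m - 1), m - 1, r, hp2, hα, hNa ▸ hN, hb, hgen, hr, by omega, ⟨c, hc⟩, fun X => ?_, by omega, by omega⟩, hNa.symm⟩
  rw [hc, show (p : ℤ) ^ α = (p : ℤ) ^ (m - 1) * (p : ℤ) ^ (α - (m - 1)) by rw [← pow_add]; congr 1; omega,
    mul_assoc, mul_dvd_mul_iff_left (pow_ne_zero _ hpZ.ne_zero)]
  exact ⟨fun h => (((hpZ.coprime_iff_not_dvd).mpr hpc).pow_left).dvd_of_dvd_mul_left h, fun h => h.mul_left c⟩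

/-- Existence of normal form data. -/
theorem exists_data [Finite G] (hp2 : p ≠ 2) (hG : IsPGroup p G) (hmc : Cfsg.IsMetacyclic G) :
    Nonempty (Data p G) :=
  let ⟨N, hN, hNc, hQc⟩ := hmc
  let ⟨D, _⟩ := exists_data_of hp2 hG N hN hNc hQc
  ⟨D⟩

namespace Data

variable (D : Data p G)

/-- The element `a ^ x * b ^ y`. -/
def el (x : ℤ) (y : ℕ) : G := D.a ^ x * D.b ^ y

/-- The sum governing commutators. -/
def S (y : ℕ) : ℤ := geo D.r y

omit hp in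
theorem hgen' (g : G) : ∃ x : ℤ, ∃ y : ℕ, g = D.el x y := D.hgen g

omit hp in
theorem zpow_a_eq_iff (x x' : ℤ) : D.a ^ x = D.a ^ x' ↔ (p : ℤ) ^ D.α ∣ x - x' := by
  rw [← orderOf_dvd_sub_iff_zpow_eq_zpow, D.ha]
  push_cast; rfl

omit hp in
theorem zpow_a_eq_one_iff (x : ℤ) : D.a ^ x = 1 ↔ (p : ℤ) ^ D.α ∣ x := by
  simpa using D.zpow_a_eq_iff x 0

omit hp in
theorem pow_b_conj_a (y : ℕ) (x : ℤ) : D.b ^ y * D.a ^ x * (D.b ^ y)⁻¹ = D.a ^ (D.r ^ y * x) := by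
  have hiter : ∀ k : ℕ, D.b ^ k * D.a * (D.b ^ k)⁻¹ = D.a ^ D.r ^ k := by
    intro k
    induction k with
    | zero => simp
    | succ k ih =>
      calc D.b ^ (k + 1) * D.a * (D.b ^ (k + 1))⁻¹ = D.b * (D.b ^ k * D.a * (D.b ^ k)⁻¹) * D.b⁻¹ := by
            rw [pow_succ']; group
        _ = (D.b * D.a * D.b⁻¹) ^ D.r ^ k := by rw [ih, conj_zpow]
        _ = D.a ^ D.r ^ (k + 1) := by rw [D.hact, ← zpow_mul, pow_succ']
  rw [← conj_zpow, hiter, ← zpow_mul]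

omit hp in
theorem el_mul (x z : ℤ) (y w : ℕ) : D.el x y * D.el z w = D.el (x + D.r ^ y * z) (y + w) := by
  simp only [el, zpow_add, pow_add, ← D.pow_b_conj_a]
  group

omit hp in
theorem el_zero : D.el 0 0 = 1 := by simp [el]

omit hp in
theorem el_pow (x : ℤ) (y N : ℕ) : D.el x y ^ N = D.el (x * geo (D.r ^ y) N) (y * N) := by
  induction N with
  | zero => simp [el, geo_zero]
  | succ N ih =>
    rw [pow_succ, ih, el_mul, geo_succ, ← pow_mul]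
    congr 1
    ring

omit hp in
/-- The commutator of two elements lies in `⟨a⟩`. -/
theorem conj_mul_inv (x z : ℤ) (y w : ℕ) :
    D.el z w * D.el x y * (D.el z w)⁻¹ * (D.el x y)⁻¹ = D.a ^ ((D.r - 1) * (x * D.S w - z * D.S y)) := by
  rw [mul_inv_eq_iff_eq_mul, mul_inv_eq_iff_eq_mul, show D.a ^ ((D.r - 1) * (x * D.S w - z * D.S y))
    = D.el ((D.r - 1) * (x * D.S w - z * D.S y)) 0 by simp [el], el_mul, el_mul, el_mul,
    Nat.zero_add, Nat.add_comm w y]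
  congr 1
  have h1 := sub_one_mul_geo D.r w
  have h2 := sub_one_mul_geo D.r y
  simp only [S, pow_zero, one_mul]
  linear_combination (-x) * h1 + z * h2

omit hp in
theorem commute_iff (x z : ℤ) (y w : ℕ) :
    Commute (D.el x y) (D.el z w) ↔ (p : ℤ) ^ D.n ∣ x * D.S w - z * D.S y := by
  rw [← D.hiff, ← D.zpow_a_eq_one_iff, ← D.conj_mul_inv, mul_inv_eq_one, mul_inv_eq_iff_eq_mul]
  exact ⟨fun h => h.symm.eq, fun h => (show Commute (D.el z w) (D.el x y) from h).symm⟩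

theorem pow_dvd_S_iff (k y : ℕ) : (p : ℤ) ^ k ∣ D.S y ↔ p ^ k ∣ y :=
  pow_dvd_geo_iff D.hp2 D.ht1 D.htr k y

theorem n_le_β : D.n ≤ D.β := by
  have h : Commute (D.el 1 0) (D.el 0 (p ^ D.β)) := by
    obtain ⟨s, hs⟩ := mem_zpowers_iff.mp ((D.hb (p ^ D.β)).mpr dvd_rfl)
    simp only [el, zpow_one, pow_zero, mul_one, zpow_zero, one_mul, ← hs]
    exact (Commute.refl D.a).zpow_right s
  rw [commute_iff, one_mul, zero_mul, sub_zero, pow_dvd_S_iff] at h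
  exact (Nat.pow_dvd_pow_iff_le_right hp.out.one_lt).mp h

theorem dvd_of_b_pow {k : ℕ} {s : ℤ} (h : D.b ^ k = D.a ^ s) : (p : ℤ) ^ D.n ∣ s := by
  have h1 : Commute (D.el s 0) (D.el 0 1) := by
    simp only [el, pow_zero, mul_one, zpow_zero, one_mul, pow_one, ← h]
    exact Commute.pow_self D.b k
  rw [commute_iff, S, geo_one, mul_one, zero_mul, sub_zero] at h1
  exact h1

omit hp in
theorem el_eq_imp {x x' : ℤ} {y y' : ℕ} (h : D.el x y = D.el x' y') (hy : y' ≤ y) :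
    D.b ^ (y - y') = D.a ^ (x' - x) ∧ p ^ D.β ∣ y - y' := by
  have h1 : D.b ^ (y - y') = D.a ^ (x' - x) := by
    simp only [el] at h
    rw [show y = (y - y') + y' by omega, pow_add, ← mul_assoc] at h
    have h2 := mul_right_cancel h
    rw [show D.b ^ (y - y') = (D.a ^ x)⁻¹ * D.a ^ x' from eq_inv_mul_iff_mul_eq.mpr h2, ← zpow_neg, ← zpow_add,
      neg_add_eq_sub]
  exact ⟨h1, (D.hb _).mp (h1 ▸ zpow_mem_zpowers _ _)⟩

/-- The coordinates are well defined modulo `p ^ n`. -/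
theorem coord {x x' : ℤ} {y y' : ℕ} (h : D.el x y = D.el x' y') {k : ℕ} (hk : k ≤ D.n) :
    ((p : ℤ) ^ k ∣ x ↔ (p : ℤ) ^ k ∣ x') ∧ (p ^ k ∣ y ↔ p ^ k ∣ y') := by
  wlog hy : y' ≤ y generalizing x x' y y'
  · obtain ⟨h1, h2⟩ := this h.symm (le_of_not_ge hy)
    exact ⟨h1.symm, h2.symm⟩
  obtain ⟨h1, h2⟩ := D.el_eq_imp h hy
  have hx : (p : ℤ) ^ k ∣ x' - x := (pow_dvd_pow _ hk).trans (D.dvd_of_b_pow h1)
  have hy' : p ^ k ∣ y - y' := (pow_dvd_pow _ (hk.trans D.n_le_β)).trans h2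
  exact ⟨(dvd_iff_dvd_of_dvd_sub hx).symm, ⟨fun h3 => (Nat.dvd_add_right hy').mp (by rwa [Nat.sub_add_cancel hy]),
    fun h3 => by rw [← Nat.sub_add_cancel hy]; exact (Nat.dvd_add_right hy').mpr h3⟩⟩

/-- The subgroup `⟨a ^ ((r - 1) p ^ e)⟩` of commutators. -/
def comm (e : ℕ) : Subgroup G := zpowers (D.a ^ ((D.r - 1) * (p : ℤ) ^ e))

omit hp in
theorem mem_comm {e : ℕ} {g : G} :
    g ∈ D.comm e ↔ ∃ X : ℤ, (p : ℤ) ^ e ∣ X ∧ g = D.a ^ ((D.r - 1) * X) := by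
  simp only [comm, mem_zpowers_iff, ← zpow_mul]
  constructor
  · rintro ⟨k, rfl⟩
    exact ⟨(p : ℤ) ^ e * k, dvd_mul_right _ _, by rw [mul_assoc]⟩
  · rintro ⟨_, ⟨k, rfl⟩, rfl⟩
    exact ⟨k, by rw [mul_assoc]⟩

theorem card_comm (e : ℕ) : Nat.card (D.comm e) = p ^ (D.n - e) := by
  have : ∀ i, (D.a ^ ((D.r - 1) * (p : ℤ) ^ e)) ^ (p ^ i) = 1 ↔ D.n ≤ e + i := fun i => by
    rw [← zpow_natCast, ← zpow_mul, D.zpow_a_eq_one_iff, mul_assoc, D.hiff, Nat.cast_pow, ← pow_add,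
      pow_dvd_pow_iff (by exact_mod_cast hp.out.ne_zero) (Nat.prime_iff_prime_int.mp hp.out).not_isUnit]
  rw [comm, Nat.card_zpowers]
  rcases Nat.eq_zero_or_pos (D.n - e) with h | h
  · rw [h, pow_zero, orderOf_eq_one_iff]
    simpa using (this 0).mpr (by omega)
  · obtain ⟨m, hm⟩ : ∃ m, D.n - e = m + 1 := ⟨D.n - e - 1, by omega⟩
    rw [hm]
    exact orderOf_eq_prime_pow (fun hh => by have := (this m).mp hh; omega) ((this (m + 1)).mpr (by omega))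

omit hp in
theorem comm_normal (e : ℕ) : (D.comm e).Normal := by
  refine ⟨fun g hg h => ?_⟩
  obtain ⟨X, hX, rfl⟩ := D.mem_comm.mp hg
  obtain ⟨z, w, rfl⟩ := D.hgen' h
  refine D.mem_comm.mpr ⟨D.r ^ w * X, hX.mul_left _, ?_⟩
  rw [el, mul_inv_rev, show D.a ^ z * D.b ^ w * D.a ^ ((D.r - 1) * X) * ((D.b ^ w)⁻¹ * (D.a ^ z)⁻¹)
    = D.a ^ z * (D.b ^ w * D.a ^ ((D.r - 1) * X) * (D.b ^ w)⁻¹) * (D.a ^ z)⁻¹ by group, D.pow_b_conj_a,
    ← zpow_add, ← zpow_neg, ← zpow_add]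
  congr 1
  ring

end Data

/-- The index of a centraliser is the number of commutators. -/
theorem index_centralizer_of_image [Finite G] (H : Subgroup G) (g : G) (T : Set G)
    (hT : (fun h => h * g * h⁻¹ * g⁻¹) '' (H : Set G) = T) :
    (Subgroup.centralizer ({g} : Set G)).relIndex H = Nat.card T := by
  subst hT
  rw [Subgroup.relIndex, Subgroup.index]
  refine Nat.card_congr (Equiv.ofBijective
    (fun q => Quotient.liftOn' q
      (fun h : H => (⟨(h : G) * g * (h : G)⁻¹ * g⁻¹, ⟨h, h.2, rfl⟩⟩ :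
        (fun h => h * g * h⁻¹ * g⁻¹) '' (H : Set G))) (fun u v huv => ?_)) ⟨?_, ?_⟩)
  · rw [QuotientGroup.leftRel_apply, mem_subgroupOf, mem_centralizer_singleton_iff] at huv
    simp only [coe_mul, coe_inv] at huv
    apply Subtype.ext
    simp only [mul_left_inj]
    calc (u : G) * g * (u : G)⁻¹ = u * (g * ((u : G)⁻¹ * v)) * (v : G)⁻¹ := by group
      _ = u * (((u : G)⁻¹ * v) * g) * (v : G)⁻¹ := by rw [huv]
      _ = v * g * (v : G)⁻¹ := by group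
  · rintro ⟨u⟩ ⟨v⟩ h
    have h' : (u : G) * g * (u : G)⁻¹ = v * g * (v : G)⁻¹ := mul_right_cancel (congrArg Subtype.val h)
    refine Quotient.sound' ?_
    rw [QuotientGroup.leftRel_apply, mem_subgroupOf, mem_centralizer_singleton_iff]
    simp only [coe_mul, coe_inv]
    calc (u : G)⁻¹ * v * g = (u : G)⁻¹ * (v * g * (v : G)⁻¹) * v := by group
      _ = (u : G)⁻¹ * (u * g * (u : G)⁻¹) * v := by rw [h']
      _ = g * ((u : G)⁻¹ * v) := by group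
  · rintro ⟨_, h, hh, rfl⟩
    exact ⟨Quotient.mk'' ⟨h, hh⟩, rfl⟩

end Cfsg.Agent.Metacyclic
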